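import Mathlib
import Cfsg.Agent.Lib.Helper54.UniqueSubgroup
import Cfsg.Agent.Lib.Helper76.SylowTools

/-!
Fixed-point-free action of a rank two elementary abelian `p`-group is impossible.

Main results:
* `pow_eq_one_of_fpf`: the norm argument on a commutative subgroup;
* `false_of_fpf`: two commuting elements of order `p` generating a noncyclic group cannot act
  on a nontrivial normal subgroup with all the relevant elements fixed-point-free;
* `ui_of_fpf`: a `p`-group acting fixed-point-freely has a unique subgroup of order `p`.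
-/

namespace Cfsg.Agent.Lib.Helper54.FpfNorm

open Subgroup Cfsg.Agent.Lib.Helper54.UniqueSubgroup

/-- A ring identity behind the norm argument for a rank two elementary abelian group. -/
theorem natCast_eq_zero_of_sums {R : Type*} [Ring R] {a b : R} (hab : Commute a b) (p : ℕ)
    (h1 : ∀ k < p, ∑ i ∈ Finset.range p, (a * b ^ k) ^ i = 0)
    (h2 : ∀ i, 0 < i → i < p → ∑ k ∈ Finset.range p, (b ^ i) ^ k = 0) : (p : R) = 0 := by
  have h3 : ∑ k ∈ Finset.range p, ∑ i ∈ Finset.range p, (a * b ^ k) ^ i = 0 :=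
    Finset.sum_eq_zero (fun k hk => h1 k (Finset.mem_range.1 hk))
  rw [Finset.sum_comm] at h3
  have h4 : ∀ i ∈ Finset.range p,
      ∑ k ∈ Finset.range p, (a * b ^ k) ^ i = if i = 0 then (p : R) else 0 := by
    intro i hi
    have h5 : ∀ k, (a * b ^ k) ^ i = a ^ i * (b ^ i) ^ k := by
      intro k
      rw [(hab.pow_right k).mul_pow, ← pow_mul, ← pow_mul, mul_comm k i]
    simp_rw [h5]
    rw [← Finset.mul_sum]
    split_ifs with hi0
    · subst hi0; simp
    · rw [h2 i (Nat.pos_of_ne_zero hi0) (Finset.mem_range.1 hi), mul_zero]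
  rw [Finset.sum_congr rfl h4, Finset.sum_ite_eq'] at h3
  rcases Nat.eq_zero_or_pos p with rfl | hp
  · simp
  · rw [if_pos (Finset.mem_range.2 hp)] at h3
    exact h3

/-- Two commuting automorphisms of exponent `p` of an abelian group, such that the elements
`a * b ^ k` and `b ^ i` have no nonzero fixed points: the group has exponent `p`. -/
theorem nsmul_eq_zero_of_fpf {A : Type*} [AddCommGroup A] (a b : AddMonoid.End A)
    (hab : Commute a b) (p : ℕ) (ha : a ^ p = 1) (hb : b ^ p = 1)
    (h1 : ∀ k < p, ∀ x : A, (a * b ^ k) x = x → x = 0)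
    (h2 : ∀ i, 0 < i → i < p → ∀ x : A, (b ^ i) x = x → x = 0) (x : A) : p • x = 0 := by
  have key : ∀ e : AddMonoid.End A, e ^ p = 1 → (∀ x : A, e x = x → x = 0) →
      ∑ i ∈ Finset.range p, e ^ i = 0 := by
    intro e he hfix
    ext x
    apply hfix
    have h := mul_geom_sum e p
    rw [he, sub_self, sub_mul, one_mul, sub_eq_zero] at h
    have := congrArg (fun f : AddMonoid.End A => f x) h
    simpa using this
  have hp0 : ((p : ℕ) : AddMonoid.End A) = 0 := by
    apply natCast_eq_zero_of_sums hab p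
    · intro k hk
      apply key _ _ (h1 k hk)
      rw [(hab.pow_right k).mul_pow, ha, ← pow_mul, mul_comm, pow_mul, hb, one_pow, one_mul]
    · intro i hi0 hip
      apply key _ _ (h2 i hi0 hip)
      rw [← pow_mul, mul_comm, pow_mul, hb, one_pow]
  have := congrArg (fun f : AddMonoid.End A => f x) hp0
  simpa using this

/-- Multiplicative version of `nsmul_eq_zero_of_fpf`. -/
theorem pow_eq_one_of_fpf_end {M : Type*} [Group M] (hM : ∀ x y : M, x * y = y * x)
    (a b : Monoid.End M) (hab : Commute a b) (p : ℕ) (ha : a ^ p = 1) (hb : b ^ p = 1)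
    (h1 : ∀ k < p, ∀ x : M, (a * b ^ k) x = x → x = 1)
    (h2 : ∀ i, 0 < i → i < p → ∀ x : M, (b ^ i) x = x → x = 1) (x : M) : x ^ p = 1 := by
  let _ : CommGroup M := { ‹Group M› with mul_comm := hM }
  have := nsmul_eq_zero_of_fpf (monoidEndToAdditive M a) (monoidEndToAdditive M b) (hab.map _) p
    (by rw [← map_pow, ha, map_one]) (by rw [← map_pow, hb, map_one])
    (by
      intro k hk y hy
      rw [← map_pow, ← map_mul] at hy
      exact congrArg Additive.ofMul (h1 k hk (Additive.toMul y) (congrArg Additive.toMul hy)))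
    (by
      intro i hi0 hip y hy
      rw [← map_pow] at hy
      exact congrArg Additive.ofMul (h2 i hi0 hip (Additive.toMul y) (congrArg Additive.toMul hy)))
    (Additive.ofMul x)
  exact congrArg Additive.toMul this

/-- Two commuting elements of exponent `p` normalizing a commutative subgroup `V`, such that
the elements `u * v ^ k` and `v ^ i` centralize no nontrivial element of `V`: then `V` has
exponent `p`. -/
theorem pow_eq_one_of_fpf {G : Type*} [Group G] (V : Subgroup G)
    (hV : ∀ x ∈ V, ∀ y ∈ V, x * y = y * x) {u v : G} (hu : u ∈ normalizer (V : Set G))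
    (hv : v ∈ normalizer (V : Set G)) (huv : Commute u v) (p : ℕ) (hup : u ^ p = 1)
    (hvp : v ^ p = 1)
    (h1 : ∀ k < p, ∀ x ∈ V, (u * v ^ k) * x = x * (u * v ^ k) → x = 1)
    (h2 : ∀ i, 0 < i → i < p → ∀ x ∈ V, v ^ i * x = x * v ^ i → x = 1) :
    ∀ w ∈ V, w ^ p = 1 := by
  let S : ↥(normalizer (V : Set G)) →* Monoid.End ↥V :=
    { toFun := fun g =>
        { toFun := fun x => ⟨(g : G) * (x : G) * (g : G)⁻¹, (mem_normalizer_iff.1 g.2 _).1 x.2⟩
          map_one' := Subtype.ext (by simp)
          map_mul' := fun x y => Subtype.ext (by simp) }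
      map_one' := MonoidHom.ext (fun x => Subtype.ext (by
        show ((1 : ↥(normalizer (V : Set G))) : G) * (x : G) *
          ((1 : ↥(normalizer (V : Set G))) : G)⁻¹ = (x : G)
        simp))
      map_mul' := fun g h => MonoidHom.ext (fun x => Subtype.ext (by
        show ((g * h : ↥(normalizer (V : Set G))) : G) * (x : G) *
          ((g * h : ↥(normalizer (V : Set G))) : G)⁻¹ =
          (g : G) * ((h : G) * (x : G) * (h : G)⁻¹) * (g : G)⁻¹
        simp [mul_assoc])) }
  have S_apply : ∀ g (x : ↥V), ((S g x : ↥V) : G) = (g : G) * (x : G) * (g : G)⁻¹ :=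
    fun g x => rfl
  have hfix : ∀ (g : ↥(normalizer (V : Set G))),
      (∀ x ∈ V, (g : G) * x = x * (g : G) → x = 1) → ∀ x : ↥V, S g x = x → x = 1 := by
    intro g hg x hx
    have h3 := congrArg Subtype.val hx
    rw [S_apply] at h3
    have h4 : (x : G) = 1 :=
      hg _ x.2 (by
        calc (g : G) * (x : G) = (g : G) * (x : G) * (g : G)⁻¹ * g := by group
          _ = (x : G) * g := by rw [h3])
    exact Subtype.ext h4
  have hcomm : Commute (S ⟨u, hu⟩) (S ⟨v, hv⟩) := by
    have : Commute (⟨u, hu⟩ : ↥(normalizer (V : Set G))) ⟨v, hv⟩ := Subtype.ext huv.eq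
    exact this.map S
  intro w hw
  have hmain := pow_eq_one_of_fpf_end (fun x y : ↥V => Subtype.ext (hV x x.2 y y.2))
    (S ⟨u, hu⟩) (S ⟨v, hv⟩) hcomm p
    (by rw [← map_pow]; convert map_one S; exact Subtype.ext hup)
    (by rw [← map_pow]; convert map_one S; exact Subtype.ext hvp)
    (by
      intro k hk x
      rw [← map_pow, ← map_mul]
      exact hfix _ (h1 k hk) x)
    (by
      intro i hi0 hip x
      rw [← map_pow]
      exact hfix _ (h2 i hi0 hip) x)
    (⟨w, hw⟩ : ↥V)
  have h6 := congrArg Subtype.val hmain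
  simpa using h6

theorem isPGroup_zpowers {G : Type*} [Group G] {p : ℕ} {u : G} (hup : u ^ p = 1) :
    IsPGroup p (zpowers u) := by
  intro g
  obtain ⟨i, hi⟩ := mem_zpowers_iff.1 g.2
  refine ⟨1, Subtype.ext ?_⟩
  rw [pow_one]
  show (g : G) ^ p = 1
  rw [← hi, ← zpow_natCast, ← zpow_mul, mul_comm, zpow_mul, zpow_natCast, hup, one_zpow]

/-- An element of order `p` centralizing no nontrivial element of the normal subgroup `K`:
then `p` does not divide the order of `K`. -/
theorem coprime_card_of_fpf {G : Type*} [Group G] [Finite G] (K : Subgroup G) [K.Normal] {p : ℕ}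
    [hp : Fact p.Prime] {u : G} (hup : u ^ p = 1) (h : ∀ x ∈ K, u * x = x * u → x = 1) :
    (Nat.card K).Coprime p := by
  rw [Nat.coprime_comm, Nat.Prime.coprime_iff_not_dvd hp.out]
  intro hdvd
  have hQ : IsPGroup p (zpowers u) := isPGroup_zpowers hup
  let ψ : zpowers u →* MulAut K := (MulAut.conjNormal (H := K)).comp (zpowers u).subtype
  let _inst : MulAction (zpowers u) K := MulAction.compHom K ψ
  have h1 : (1 : K) ∈ MulAction.fixedPoints (zpowers u) K := by
    intro g
    show ψ g 1 = 1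
    exact map_one _
  obtain ⟨b, hb, hb1⟩ := hQ.exists_fixed_point_of_prime_dvd_card_of_fixed_point K hdvd h1
  apply hb1
  have h2 : ψ ⟨u, mem_zpowers u⟩ b = b := hb ⟨u, mem_zpowers u⟩
  have h3 : u * (b : G) * u⁻¹ = b := by
    have := congrArg Subtype.val h2
    simpa [ψ] using this
  have h4 : (b : G) = 1 := h b b.2 (by
    calc u * (b : G) = u * (b : G) * u⁻¹ * u := by group
      _ = (b : G) * u := by rw [h3])
  exact (Subtype.ext h4).symm

theorem normalizer_le_normalizer_inf_centralizer {G : Type*} [Group G] [Finite G]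
    (R : Subgroup G) :
    normalizer (R : Set G) ≤ normalizer ((R ⊓ centralizer (R : Set G) : Subgroup G) : Set G) := by
  intro g hg
  apply mem_normalizer_fintype
  intro x hx
  have hxR : x ∈ R := hx.1
  have hxC : x ∈ centralizer (R : Set G) := hx.2
  refine ⟨(mem_normalizer_iff.1 hg x).1 hxR, ?_⟩
  show g * x * g⁻¹ ∈ centralizer (R : Set G)
  rw [mem_centralizer_iff]
  intro r hr
  have hr' : g⁻¹ * r * g ∈ R := (mem_normalizer_iff.1 hg (g⁻¹ * r * g)).2 (by
    have : g * (g⁻¹ * r * g) * g⁻¹ = r := by group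
    rw [this]; exact hr)
  have h1 := mem_centralizer_iff.1 hxC _ hr'
  calc r * (g * x * g⁻¹) = g * ((g⁻¹ * r * g) * x) * g⁻¹ := by group
    _ = g * (x * (g⁻¹ * r * g)) * g⁻¹ := by rw [h1]
    _ = g * x * g⁻¹ * r := by group

/-- Two commuting elements `u`, `v` of order dividing `p` such that the elements `u * v ^ k`
(`k < p`) and `v ^ i` (`0 < i < p`) centralize no nontrivial element of the nontrivial normal
subgroup `K`: impossible. -/
theorem false_of_fpf {G : Type*} [Group G] [Finite G] (K : Subgroup G) [K.Normal] (hK : K ≠ ⊥)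
    {p : ℕ} [hp : Fact p.Prime] {u v : G} (huv : Commute u v) (hup : u ^ p = 1) (hvp : v ^ p = 1)
    (h1 : ∀ k < p, ∀ x ∈ K, (u * v ^ k) * x = x * (u * v ^ k) → x = 1)
    (h2 : ∀ i, 0 < i → i < p → ∀ x ∈ K, v ^ i * x = x * v ^ i → x = 1) : False := by
  have hcop : (Nat.card K).Coprime p := coprime_card_of_fpf K hup (by
    intro x hx hc
    exact h1 0 hp.out.pos x hx (by simpa using hc))
  have hcardK : Nat.card K ≠ 1 := fun h => hK (K.eq_bot_of_card_eq h)
  obtain ⟨q, hq, hqK⟩ := Nat.exists_prime_and_dvd hcardK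
  have : Fact q.Prime := ⟨hq⟩
  have hpq : p ≠ q := by
    rintro rfl
    exact hp.out.one_lt.ne' (Nat.Coprime.eq_one_of_dvd hcop.symm hqK)
  have hQ : IsPGroup p (zpowers u ⊔ zpowers v : Subgroup G) := by
    apply IsPGroup.to_sup_of_normal_right' (isPGroup_zpowers hup) (isPGroup_zpowers hvp)
    refine le_trans ?_ (centralizer_le_normalizer _)
    rw [zpowers_le, mem_centralizer_iff]
    intro y hy
    obtain ⟨i, rfl⟩ := mem_zpowers_iff.1 hy
    exact (huv.zpow_right i).eq.symm
  obtain ⟨R, ⟨hRK, hRq, hRidx⟩, hQR⟩ :=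
    Cfsg.Agent.Lib.Helper76.SylowTools.exists_invariant_isSylowIn (p := q) (q := p)
      (zpowers u ⊔ zpowers v) hQ K hcop
  have hRbot : R ≠ ⊥ := by
    rintro rfl
    apply hRidx
    rw [relIndex_bot_left]; exact hqK
  have huR : u ∈ normalizer (R : Set G) := hQR ((le_sup_left : zpowers u ≤ _) (mem_zpowers u))
  have hvR : v ∈ normalizer (R : Set G) := hQR ((le_sup_right : zpowers v ≤ _) (mem_zpowers v))
  have : Nontrivial ↥R := (nontrivial_iff_ne_bot R).2 hRbot
  have hnt := hRq.center_nontrivial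
  obtain ⟨c, hc⟩ := exists_ne (1 : center ↥R)
  have hzR : ((c : ↥R) : G) ∈ R := (c : ↥R).2
  have hz1 : ((c : ↥R) : G) ≠ 1 := fun h => hc (Subtype.ext (Subtype.ext h))
  have hzC : ((c : ↥R) : G) ∈ centralizer (R : Set G) := by
    rw [mem_centralizer_iff]
    intro r hr
    have := mem_center_iff.1 c.2 ⟨r, hr⟩
    exact congrArg Subtype.val this
  have hVab : ∀ x ∈ (R ⊓ centralizer (R : Set G) : Subgroup G),
      ∀ y ∈ (R ⊓ centralizer (R : Set G) : Subgroup G), x * y = y * x := by
    rintro x ⟨hxR, -⟩ y ⟨-, hyC⟩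
    exact mem_centralizer_iff.1 hyC x hxR
  have hVK : (R ⊓ centralizer (R : Set G) : Subgroup G) ≤ K := inf_le_left.trans hRK
  have hexp := pow_eq_one_of_fpf (R ⊓ centralizer (R : Set G)) hVab
    (normalizer_le_normalizer_inf_centralizer R huR)
    (normalizer_le_normalizer_inf_centralizer R hvR) huv p hup hvp
    (fun k hk x hx => h1 k hk x (hVK hx)) (fun i hi0 hip x hx => h2 i hi0 hip x (hVK hx))
    _ ⟨hzR, hzC⟩
  obtain ⟨k, hk⟩ := hRq ⟨_, hzR⟩
  have hk' : ((c : ↥R) : G) ^ q ^ k = 1 := by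
    have := congrArg Subtype.val hk
    simpa using this
  apply hz1
  have h3 : orderOf ((c : ↥R) : G) ∣ Nat.gcd p (q ^ k) :=
    Nat.dvd_gcd (orderOf_dvd_of_pow_eq_one hexp) (orderOf_dvd_of_pow_eq_one hk')
  have h4 : Nat.gcd p (q ^ k) = 1 :=
    Nat.Coprime.pow_right k ((Nat.coprime_primes hp.out hq).2 hpq)
  rw [h4, Nat.dvd_one, orderOf_eq_one_iff] at h3
  exact h3

/-- For elements of order `p`: if `u` is a power of `v` then `v` is a power of `u`. -/
theorem mem_zpowers_symm {S : Type*} [Group S] [Finite S] {p : ℕ} [hp : Fact p.Prime] {u v : S}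
    (hup : u ^ p = 1) (hu1 : u ≠ 1) (hvp : v ^ p = 1) (h : u ∈ zpowers v) : v ∈ zpowers u := by
  have hv1 : v ≠ 1 := by
    rintro rfl
    rw [zpowers_one_eq_bot, mem_bot] at h
    exact hu1 h
  have hou : orderOf u = p := orderOf_eq_prime hup hu1
  have hov : orderOf v = p := orderOf_eq_prime hvp hv1
  have hle : zpowers u ≤ zpowers v := zpowers_le.2 h
  have heq : zpowers u = zpowers v := by
    apply Subgroup.eq_of_le_of_card_ge hle
    rw [Nat.card_zpowers, Nat.card_zpowers, hou, hov]
  rw [heq]; exact mem_zpowers v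

/-- A finite `p`-group with more than one subgroup of order `p` contains two commuting elements
of order `p` generating a noncyclic subgroup. -/
theorem exists_pair_of_not_ui {S : Type*} [Group S] [Finite S] {p : ℕ} [hp : Fact p.Prime]
    (hS : IsPGroup p S) (h : ¬ UI p S) :
    ∃ u v : S, Commute u v ∧ u ^ p = 1 ∧ v ^ p = 1 ∧ u ≠ 1 ∧ v ∉ zpowers u := by
  unfold UI at h
  push Not at h
  obtain ⟨x, y, hx, hy, hx1, hyx⟩ := h
  have : Nontrivial S := ⟨⟨x, 1, hx1⟩⟩
  have hnt := hS.center_nontrivial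
  obtain ⟨c, hc⟩ := exists_ne (1 : center S)
  have hc1 : (c : S) ≠ 1 := fun h => hc (Subtype.ext h)
  obtain ⟨m, hm1, hm2⟩ := exists_pow_prime hS hc1
  have hzc : (c : S) ^ m ∈ center S := pow_mem c.2 m
  have hcomm : ∀ w : S, Commute ((c : S) ^ m) w := fun w => (mem_center_iff.1 hzc w).symm
  by_cases hyz : y ∈ zpowers ((c : S) ^ m)
  · refine ⟨(c : S) ^ m, x, hcomm x, hm2, hx, hm1, ?_⟩
    intro hxz
    have h1 := mem_zpowers_symm hx hx1 hm2 hxz
    exact hyx ((zpowers_le.2 h1) hyz)
  · exact ⟨(c : S) ^ m, y, hcomm y, hm2, hy, hm1, hyz⟩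

/-- A finite `p`-group embedded in `G` such that its nonidentity elements centralize no
nontrivial element of the nontrivial normal subgroup `K` has a unique subgroup of order `p`. -/
theorem ui_of_fpf {G S : Type*} [Group G] [Finite G] [Group S] [Finite S] (K : Subgroup G)
    [K.Normal] (hK : K ≠ ⊥) {p : ℕ} [hp : Fact p.Prime] (hS : IsPGroup p S) (f : S →* G)
    (hfpf : ∀ s : S, s ≠ 1 → ∀ x ∈ K, f s * x = x * f s → x = 1) : UI p S := by
  by_contra hUI
  obtain ⟨u, v, huv, hup, hvp, hu1, hvu⟩ := exists_pair_of_not_ui hS hUI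
  have hv1 : v ≠ 1 := fun h => hvu (h ▸ one_mem _)
  have hov : orderOf v = p := orderOf_eq_prime hvp hv1
  apply false_of_fpf K hK (p := p) (u := f u) (v := f v) (huv.map f)
    (by rw [← map_pow, hup, map_one]) (by rw [← map_pow, hvp, map_one])
  · intro k hk x hx hcomm
    rw [← map_pow, ← map_mul] at hcomm
    refine hfpf (u * v ^ k) ?_ x hx hcomm
    intro h1
    apply hvu
    apply mem_zpowers_symm hup hu1 hvp
    have h2 : u = (v ^ k)⁻¹ := eq_inv_of_mul_eq_one_left h1
    rw [h2]; exact inv_mem (pow_mem (mem_zpowers v) k)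
  · intro i hi0 hip x hx hcomm
    rw [← map_pow] at hcomm
    refine hfpf (v ^ i) ?_ x hx hcomm
    exact pow_ne_one_of_lt_orderOf hi0.ne' (by rw [hov]; exact hip)

end Cfsg.Agent.Lib.Helper54.FpfNorm
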