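import Mathlib
import Cfsg.Agent.Lib.Helper54.UniqueSubgroup
import Cfsg.Agent.Lib.Helper54.FpfNorm
import Cfsg.Agent.Lib.Helper54.Quaternion
import Cfsg.Agent.S0646
import Cfsg.Agent.S3224
import Cfsg.Prelude.Def_CaseTheorems

/-!
# `p`-groups with a self-centralizing cyclic normal subgroup

`G` a finite `p`-group, `a : G` of order `p ^ (n + 1)` with `zpowers a` normal and equal to its
own centralizer.  *Modular case*: some `y ∉ zpowers a` centralizes `a ^ p`.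
-/

namespace Cfsg.Agent.Lib.Helper54.CyclicNormal

open Subgroup
open Cfsg.Agent.Lib.Helper54.UniqueSubgroup
open Cfsg.Agent.Lib.Helper54.FpfNorm

universe u

variable {G : Type u} [Group G]

theorem conj_eq_zpow {a : G} (hN : (zpowers a).Normal) (g : G) : ∃ r : ℤ, g * a * g⁻¹ = a ^ r := by
  obtain ⟨r, hr⟩ := mem_zpowers_iff.1 (hN.conj_mem a (mem_zpowers a) g)
  exact ⟨r, hr.symm⟩

theorem conj_zpow_of_conj {a g : G} {r : ℤ} (h : g * a * g⁻¹ = a ^ r) (k : ℤ) :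
    g * a ^ k * g⁻¹ = (a ^ k) ^ r := by
  rw [← conj_zpow, h, ← zpow_mul, ← zpow_mul, mul_comm]

theorem conj_mem_of_conj {a g : G} {r : ℤ} (h : g * a * g⁻¹ = a ^ r) {b : G}
    (hb : b ∈ zpowers a) : g * b * g⁻¹ = b ^ r := by
  obtain ⟨k, rfl⟩ := mem_zpowers_iff.1 hb
  exact conj_zpow_of_conj h k

theorem pow_conj_of_conj {a g : G} {r : ℤ} (h : g * a * g⁻¹ = a ^ r) (m : ℕ) :
    g ^ m * a * (g ^ m)⁻¹ = a ^ (r ^ m) := by
  induction m with
  | zero => simp
  | succ m ih =>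
    calc g ^ (m + 1) * a * (g ^ (m + 1))⁻¹ = g * (g ^ m * a * (g ^ m)⁻¹) * g⁻¹ := by
          rw [pow_succ']; group
      _ = g * a ^ (r ^ m) * g⁻¹ := by rw [ih]
      _ = (a ^ (r ^ m)) ^ r := conj_zpow_of_conj h _
      _ = a ^ (r ^ (m + 1)) := by rw [← zpow_mul, pow_succ]

/-- Lifting the exponent, in the form needed here. -/
theorem dvd_sub_one_of_pow_dvd {p : ℕ} (hp : p.Prime) (hp2 : p ≠ 2) {r : ℤ} {n : ℕ}
    (h1 : (p : ℤ) ∣ r - 1) (hn : ((p ^ (n + 1) : ℕ) : ℤ) ∣ r ^ p - 1) :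
    ((p ^ n : ℕ) : ℤ) ∣ r - 1 := by
  have hodd : Odd p := hp.odd_of_ne_two hp2
  have hpZ : Prime (p : ℤ) := Nat.prime_iff_prime_int.1 hp
  have hx : ¬ (p : ℤ) ∣ r := by
    intro h
    have h2 := dvd_sub h h1
    rw [sub_sub_cancel] at h2
    exact hpZ.not_dvd_one h2
  have key := emultiplicity_pow_prime_sub_pow_prime hpZ hodd (x := r) (y := 1)
    (by simpa using h1) hx
  rw [one_pow] at key
  by_contra hcon
  push_cast at hcon hn
  have h3 : emultiplicity (p : ℤ) (r - 1) < n := emultiplicity_lt_iff_not_dvd.2 hcon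
  have h4 : emultiplicity (p : ℤ) (r ^ p - 1) < (n + 1 : ℕ) := by
    rw [key]
    have h5 := Order.add_one_le_of_lt h3
    refine lt_of_le_of_lt h5 ?_
    exact_mod_cast Nat.lt_succ_self n
  exact (emultiplicity_lt_iff_not_dvd.1 h4) hn

/-- In a `p`-group, conjugation acts on a normal cyclic subgroup by an exponent `≡ 1 mod p`. -/
theorem dvd_sub_one_of_conj {p : ℕ} [hp : Fact p.Prime] (hG : IsPGroup p G) {a g : G} {n : ℕ}
    (ha : orderOf a = p ^ (n + 1)) {r : ℤ} (h : g * a * g⁻¹ = a ^ r) : (p : ℤ) ∣ r - 1 := by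
  obtain ⟨k, hk⟩ := hG g
  have h1 := pow_conj_of_conj h (p ^ k)
  rw [hk, one_mul, inv_one, mul_one] at h1
  have h2 : a ^ (r ^ (p ^ k) - 1) = 1 := by
    rw [zpow_sub, zpow_one, ← h1, mul_inv_cancel]
  have h3 : ((p ^ (n + 1) : ℕ) : ℤ) ∣ r ^ (p ^ k) - 1 := by
    rw [← ha]; exact orderOf_dvd_iff_zpow_eq_one.2 h2
  have h4 : (p : ℤ) ∣ r ^ (p ^ k) - 1 :=
    dvd_trans (by push_cast; exact dvd_pow_self _ (by omega)) h3
  have h5 : ((r ^ (p ^ k) - 1 : ℤ) : ZMod p) = 0 := (ZMod.intCast_zmod_eq_zero_iff_dvd _ _).2 h4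
  push_cast at h5
  rw [ZMod.pow_card_pow] at h5
  exact (ZMod.intCast_zmod_eq_zero_iff_dvd _ _).1 (by push_cast; exact h5)

/-- Elements of order dividing `p` in the normal cyclic subgroup are central. -/
theorem conj_eq_of_pow_eq_one {p : ℕ} [hp : Fact p.Prime] (hG : IsPGroup p G) {a : G} {n : ℕ}
    (ha : orderOf a = p ^ (n + 1)) (hN : (zpowers a).Normal) {b : G} (hb : b ∈ zpowers a)
    (hbp : b ^ p = 1) (g : G) : g * b * g⁻¹ = b := by
  obtain ⟨r, hr⟩ := conj_eq_zpow hN g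
  obtain ⟨t, ht⟩ := dvd_sub_one_of_conj hG ha hr
  rw [conj_mem_of_conj hr hb]
  have : r = 1 + p * t := by omega
  rw [this, zpow_add, zpow_one, zpow_mul, zpow_natCast, hbp, one_zpow, mul_one]

theorem mem_zpowers_pow_of_pow_eq_one {p : ℕ} [hp : Fact p.Prime] {a : G} {n : ℕ}
    (ha : orderOf a = p ^ (n + 1)) {b : G} (hb : b ∈ zpowers a) (hbp : b ^ p = 1) :
    b ∈ zpowers (a ^ p ^ n) := by
  obtain ⟨j, rfl⟩ := mem_zpowers_iff.1 hb
  have h1 : a ^ (j * p) = 1 := by rw [zpow_mul, zpow_natCast]; exact hbp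
  have h2 : ((p ^ (n + 1) : ℕ) : ℤ) ∣ j * p := by
    rw [← ha]; exact orderOf_dvd_iff_zpow_eq_one.2 h1
  have h3 : ((p ^ n : ℕ) : ℤ) ∣ j := by
    push_cast at h2 ⊢
    rw [pow_succ] at h2
    exact Int.dvd_of_mul_dvd_mul_right (by exact_mod_cast hp.out.ne_zero) h2
  obtain ⟨t, rfl⟩ := h3
  rw [zpow_mul, zpow_natCast]
  exact zpow_mem (mem_zpowers _) t

theorem pow_pow_eq_one {p : ℕ} {a : G} {n : ℕ} (ha : orderOf a = p ^ (n + 1)) :
    (a ^ p ^ n) ^ p = 1 := by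
  rw [← pow_mul, ← pow_succ, ← ha, pow_orderOf_eq_one]

theorem pow_ne_one {p : ℕ} [hp : Fact p.Prime] {a : G} {n : ℕ} (ha : orderOf a = p ^ (n + 1)) :
    a ^ p ^ n ≠ 1 := by
  intro h
  have h1 := orderOf_dvd_of_pow_eq_one h
  rw [ha] at h1
  have h2 := Nat.le_of_dvd (pow_pos hp.out.pos n) h1
  have h3 := Nat.pow_lt_pow_right hp.out.one_lt (show n < n + 1 by omega)
  omega

/-- An element centralizing `a ^ p` conjugates each `b ∈ zpowers a` to `b * e` with `e` of order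
dividing `p` in `zpowers a`. -/
theorem conj_mem_mul {p : ℕ} {a w : G} (hN : (zpowers a).Normal) (hw : Commute w (a ^ p)) {b : G}
    (hb : b ∈ zpowers a) : ∃ e ∈ zpowers a, e ^ p = 1 ∧ w * b * w⁻¹ = b * e := by
  obtain ⟨r, hr⟩ := conj_eq_zpow hN w
  have h1 : w * a ^ (p : ℤ) * w⁻¹ = (a ^ (p : ℤ)) ^ r := conj_zpow_of_conj hr p
  have h2 : w * a ^ (p : ℤ) * w⁻¹ = a ^ (p : ℤ) := by
    rw [zpow_natCast, hw.eq, mul_inv_cancel_right]
  have h3 : a ^ ((r - 1) * p) = 1 := by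
    rw [h2, ← zpow_mul] at h1
    have : (r - 1) * (p : ℤ) = p * r - p := by ring
    rw [this, zpow_sub, ← h1, mul_inv_cancel]
  obtain ⟨k, rfl⟩ := mem_zpowers_iff.1 hb
  refine ⟨(a ^ k) ^ (r - 1), zpow_mem (zpow_mem (mem_zpowers a) k) _, ?_, ?_⟩
  · rw [← zpow_mul, ← zpow_natCast, ← zpow_mul]
    have : k * (r - 1) * (p : ℤ) = (r - 1) * p * k := by ring
    rw [this, zpow_mul, h3, one_zpow]
  · rw [conj_zpow_of_conj hr k, ← zpow_one_add]
    congr 1; ring

theorem pow_conj_mul {a y c : G} (h : y * a * y⁻¹ = a * c) (hc : y * c * y⁻¹ = c) (i : ℕ) :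
    y ^ i * a * (y ^ i)⁻¹ = a * c ^ i := by
  induction i with
  | zero => simp
  | succ i ih =>
    have hci : y * c ^ i * y⁻¹ = c ^ i := by rw [← conj_pow, hc]
    calc y ^ (i + 1) * a * (y ^ (i + 1))⁻¹ = y * (y ^ i * a * (y ^ i)⁻¹) * y⁻¹ := by
          rw [pow_succ']; group
      _ = (y * a * y⁻¹) * (y * c ^ i * y⁻¹) := by rw [ih]; group
      _ = a * c ^ (i + 1) := by rw [h, hci, pow_succ', mul_assoc]

theorem commute_of_mem_zpowers {a b b' : G} (hb : b ∈ zpowers a) (hb' : b' ∈ zpowers a) :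
    Commute b b' := by
  obtain ⟨i, rfl⟩ := mem_zpowers_iff.1 hb
  obtain ⟨j, rfl⟩ := mem_zpowers_iff.1 hb'
  exact ((Commute.refl a).zpow_left i).zpow_right j

theorem commute_of_conj_eq {x b : G} (h : x * b * x⁻¹ = b) : Commute x b :=
  mul_inv_eq_iff_eq_mul.1 h

theorem pow_mem_eq_one {p : ℕ} {a : G} {n : ℕ} (ha : orderOf a = p ^ (n + 1)) {b : G}
    (hb : b ∈ zpowers a) : b ^ p ^ (n + 1) = 1 := by
  obtain ⟨k, rfl⟩ := mem_zpowers_iff.1 hb
  rw [← zpow_natCast, ← zpow_mul, mul_comm, zpow_mul, zpow_natCast, ← ha, pow_orderOf_eq_one,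
    one_zpow]

/-- In the modular case every element centralizing `a ^ p` lies in `y ^ i * zpowers a`. -/
theorem modular_aux {p : ℕ} [hp : Fact p.Prime] [Finite G] (hG : IsPGroup p G) {a : G} {n : ℕ}
    (ha : orderOf a = p ^ (n + 1)) (hN : (zpowers a).Normal)
    (hC : ∀ x : G, Commute x a → x ∈ zpowers a)
    {y : G} (hyA : y ∉ zpowers a) (hy : Commute y (a ^ p)) :
    ∀ w : G, Commute w (a ^ p) → ∃ i : ℕ, (y ^ i)⁻¹ * w ∈ zpowers a := by
  intro w hw
  obtain ⟨c, hcA, hcp, hc⟩ := conj_mem_mul hN hy (mem_zpowers a)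
  obtain ⟨c', hcA', hcp', hc'⟩ := conj_mem_mul hN hw (mem_zpowers a)
  have hc1 : c ≠ 1 := by
    rintro rfl
    apply hyA; apply hC
    rw [mul_one] at hc
    exact commute_of_conj_eq hc
  have hzc : a ^ p ^ n ∈ zpowers c :=
    mem_zpowers_symm hcp hc1 (pow_pow_eq_one ha) (mem_zpowers_pow_of_pow_eq_one ha hcA hcp)
  have hc'c : c' ∈ zpowers c := (zpowers_le.2 hzc) (mem_zpowers_pow_of_pow_eq_one ha hcA' hcp')
  obtain ⟨i, hi⟩ := (mem_powers_iff_mem_zpowers.2 hc'c)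
  refine ⟨i, hC _ ?_⟩
  have h1 := pow_conj_mul hc (conj_eq_of_pow_eq_one hG ha hN hcA hcp y) i
  have h2 : y ^ i * a * (y ^ i)⁻¹ = w * a * w⁻¹ := by
    rw [h1, hc']; congr 1
  show (y ^ i)⁻¹ * w * a = a * ((y ^ i)⁻¹ * w)
  have h3 : w * a = y ^ i * a * (y ^ i)⁻¹ * w := by rw [h2]; group
  rw [mul_assoc, h3]; group

/-- `p` odd: the `p`-th power map is multiplicative on `w * b`, `w` centralizing `a ^ p`,
`b ∈ zpowers a`. -/
theorem mul_pow_prime {p : ℕ} [hp : Fact p.Prime] (hp2 : p ≠ 2) (hG : IsPGroup p G) {a : G}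
    {n : ℕ} (ha : orderOf a = p ^ (n + 1)) (hN : (zpowers a).Normal) {w b : G}
    (hw : Commute w (a ^ p)) (hb : b ∈ zpowers a) : (w * b) ^ p = w ^ p * b ^ p := by
  obtain ⟨e, heA, hep, he⟩ := conj_mem_mul hN hw.inv_left hb
  rw [inv_inv] at he
  have hcen : ∀ g : G, Commute g e := fun g =>
    commute_of_conj_eq (conj_eq_of_pow_eq_one hG ha hN heA hep g)
  have h1 : w * b = b * w * e⁻¹ := by
    have : b * w = w * (w⁻¹ * b * w) := by group
    rw [this, he]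
    have h2 := (hcen b).eq
    calc w * b = w * (b * e) * e⁻¹ := by group
      _ = _ := rfl
  have h3 := mul_pow_of_central h1 ((hcen w).symm.inv_left) ((hcen b).symm.inv_left) p
  have h4 : p ∣ p.choose 2 := hp.out.dvd_choose_self (by norm_num)
    (lt_of_le_of_ne hp.out.two_le (Ne.symm hp2))
  obtain ⟨s, hs⟩ := h4
  rw [hs, pow_mul, inv_pow, hep, inv_one, one_pow, mul_one] at h3
  exact h3

/-- `p` odd, modular case: an element of order `p` outside `zpowers a`. -/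
theorem exists_order_p_odd {p : ℕ} [hp : Fact p.Prime] [Finite G] (hp2 : p ≠ 2)
    (hG : IsPGroup p G) {a : G} {n : ℕ}
    (ha : orderOf a = p ^ (n + 1)) (hN : (zpowers a).Normal)
    (hC : ∀ x : G, Commute x a → x ∈ zpowers a)
    {y : G} (hyA : y ∉ zpowers a) (hy : Commute y (a ^ p)) :
    ∃ y0 : G, y0 ∉ zpowers a ∧ y0 ^ p = 1 ∧ Commute y0 (a ^ p) := by
  obtain ⟨c, hcA, hcp, hc⟩ := conj_mem_mul hN hy (mem_zpowers a)
  have hcc := conj_eq_of_pow_eq_one hG ha hN hcA hcp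
  have hc1 : c ≠ 1 := by
    rintro rfl
    apply hyA; apply hC
    rw [mul_one] at hc
    exact commute_of_conj_eq hc
  have hypA : y ^ p ∈ zpowers a := by
    apply hC
    have h1 := pow_conj_mul hc (hcc y) p
    rw [hcp, mul_one] at h1
    exact commute_of_conj_eq h1
  obtain ⟨j, hj⟩ := mem_zpowers_iff.1 hypA
  have h1 : y * a ^ j * y⁻¹ = a ^ j := by
    rw [hj]
    have : Commute y (y ^ p) := (Commute.refl y).pow_right p
    rw [this.eq, mul_inv_cancel_right]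
  have h2 : y * a ^ j * y⁻¹ = a ^ j * c ^ j := by
    rw [← conj_zpow, hc, (commute_of_mem_zpowers (mem_zpowers a) hcA).mul_zpow]
  have h3 : c ^ j = 1 := by
    rw [h1] at h2
    exact (mul_eq_left.1 h2.symm)
  have h4 : (orderOf c : ℤ) ∣ j := orderOf_dvd_iff_zpow_eq_one.2 h3
  rw [orderOf_eq_prime hcp hc1] at h4
  obtain ⟨t, rfl⟩ := h4
  have hb1 : (a ^ t) ^ p = y ^ p := by
    rw [← hj, ← zpow_natCast, ← zpow_mul, mul_comm]
  refine ⟨y * (a ^ t)⁻¹, ?_, ?_, ?_⟩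
  · intro h
    apply hyA
    have := mul_mem h (zpow_mem (mem_zpowers a) t)
    rwa [inv_mul_cancel_right] at this
  · rw [mul_pow_prime hp2 hG ha hN hy (inv_mem (zpow_mem (mem_zpowers a) t)), inv_pow, hb1,
      mul_inv_cancel]
  · exact hy.mul_left
      ((commute_of_mem_zpowers (zpow_mem (mem_zpowers a) t) (pow_mem (mem_zpowers a) p)).inv_left)

theorem conj_two {a y : G} {n : ℕ} (h : y * a * y⁻¹ = a * a ^ 2 ^ n) {b : G}
    (hb : b ∈ zpowers a) : y * b * y⁻¹ = b * b ^ 2 ^ n := by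
  obtain ⟨k, rfl⟩ := mem_zpowers_iff.1 hb
  rw [← conj_zpow, h, ← pow_succ', ← zpow_natCast, ← zpow_mul, ← zpow_natCast (a ^ k), ← zpow_mul,
    ← zpow_add]
  congr 1; push_cast; ring

/-- In the modular case for `p = 2`, `y` acts by `a ↦ a * a ^ (2 ^ n)`. -/
theorem conj_eq_two [Finite G] (hG : IsPGroup 2 G) {a : G} {n : ℕ}
    (ha : orderOf a = 2 ^ (n + 1)) (hN : (zpowers a).Normal)
    (hC : ∀ x : G, Commute x a → x ∈ zpowers a)
    {y : G} (hyA : y ∉ zpowers a) (hy : Commute y (a ^ 2)) : y * a * y⁻¹ = a * a ^ 2 ^ n := by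
  have : Fact (Nat.Prime 2) := ⟨Nat.prime_two⟩
  obtain ⟨c, hcA, hcp, hc⟩ := conj_mem_mul hN hy (mem_zpowers a)
  have hc1 : c ≠ 1 := by
    rintro rfl
    apply hyA; apply hC
    rw [mul_one] at hc
    exact commute_of_conj_eq hc
  have h1 : c = a ^ 2 ^ n :=
    Cfsg.Agent.Lib.Helper54.Quaternion.eq_pow_half_of_mem_zpowers (by rw [ha, pow_succ'])
      (orderOf_eq_prime hcp hc1) hcA
  rw [hc, h1]

/-- `p = 2`, modular case: an involution outside `zpowers a`. -/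
theorem exists_order_two [Finite G] (hG : IsPGroup 2 G) {a : G} {m : ℕ}
    (ha : orderOf a = 2 ^ (m + 3)) (hN : (zpowers a).Normal)
    (hC : ∀ x : G, Commute x a → x ∈ zpowers a)
    {y : G} (hyA : y ∉ zpowers a) (hy : Commute y (a ^ 2)) :
    ∃ y0 : G, y0 ∉ zpowers a ∧ y0 ^ 2 = 1 ∧ Commute y0 (a ^ 2) := by
  have : Fact (Nat.Prime 2) := ⟨Nat.prime_two⟩
  have hya := conj_eq_two hG ha hN hC hyA hy
  have hy2A : y * y ∈ zpowers a := by
    apply hC
    have h1 : y * y * a * (y * y)⁻¹ = y * (y * a * y⁻¹) * y⁻¹ := by group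
    have h2 : y * (a * a ^ 2 ^ (m + 2)) * y⁻¹ = a := by
      rw [conj_two hya (mul_mem (mem_zpowers a) (pow_mem (mem_zpowers a) _))]
      have : a * a ^ 2 ^ (m + 2) * (a * a ^ 2 ^ (m + 2)) ^ 2 ^ (m + 2)
          = a * (a ^ 2 ^ (m + 3)) ^ (1 + 2 ^ (m + 1)) := by
        simp only [← pow_succ', ← pow_mul, ← pow_succ, ← pow_add]
        congr 1; ring
      rw [this, ← ha, pow_orderOf_eq_one, one_pow, mul_one]
    rw [hya, h2] at h1
    exact commute_of_conj_eq h1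
  obtain ⟨j, hj⟩ := mem_zpowers_iff.1 hy2A
  have h1 : y * a ^ j * y⁻¹ = a ^ j := by
    rw [hj]
    have : Commute y (y * y) := (Commute.refl y).mul_right (Commute.refl y)
    rw [this.eq, mul_inv_cancel_right]
  have h2 : (a ^ j) ^ 2 ^ (m + 2) = 1 := by
    rw [conj_two hya (zpow_mem (mem_zpowers a) j)] at h1
    exact mul_eq_left.1 h1
  have h3 : ((2 ^ (m + 3) : ℕ) : ℤ) ∣ j * 2 ^ (m + 2) := by
    rw [← ha]; apply orderOf_dvd_iff_zpow_eq_one.2
    rw [zpow_mul]; exact_mod_cast h2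
  have h4 : (2 : ℤ) ∣ j := by
    push_cast at h3
    have : (2 : ℤ) ^ (m + 3) = 2 * 2 ^ (m + 2) := by ring
    rw [this] at h3
    exact Int.dvd_of_mul_dvd_mul_right (by positivity) h3
  obtain ⟨t, rfl⟩ := h4
  set c1 : G := a ^ (t * (2 ^ (m + 1) - 1)) with hc1
  have hc1A : c1 ∈ zpowers a := zpow_mem (mem_zpowers a) _
  refine ⟨y * c1, ?_, ?_, ?_⟩
  · intro h
    apply hyA
    have := mul_mem h (inv_mem hc1A)
    rwa [mul_inv_cancel_right] at this
  · have h5 : (y * c1) ^ 2 = (y * c1 * y⁻¹) * (y * y) * c1 := by rw [pow_two]; group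
    rw [h5, conj_two hya hc1A, ← hj, hc1]
    have h6 : a ^ (t * (2 ^ (m + 1) - 1)) * (a ^ (t * (2 ^ (m + 1) - 1))) ^ 2 ^ (m + 2)
        * a ^ (2 * t) * a ^ (t * (2 ^ (m + 1) - 1)) = (a ^ ((2 ^ (m + 3) : ℕ) : ℤ)) ^ (t * 2 ^ m) := by
      rw [← zpow_natCast (a ^ (t * (2 ^ (m + 1) - 1))), ← zpow_mul, ← zpow_add, ← zpow_add,
        ← zpow_add, ← zpow_mul]
      congr 1; push_cast; ring
    rw [h6, zpow_natCast, ← ha, pow_orderOf_eq_one, one_zpow]
  · exact hy.mul_left (commute_of_mem_zpowers hc1A (pow_mem (mem_zpowers a) 2))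

theorem zpowers_inf_eq_bot {p : ℕ} [hp : Fact p.Prime] [Finite G] {a y0 : G}
    (hy0A : y0 ∉ zpowers a) (hy0p : y0 ^ p = 1) : zpowers a ⊓ zpowers y0 = ⊥ := by
  rw [eq_bot_iff]
  intro x hx
  rw [mem_inf] at hx
  rw [mem_bot]
  by_contra hx1
  obtain ⟨hxa, hxy⟩ := hx
  have hxp : x ^ p = 1 := by
    obtain ⟨k, rfl⟩ := mem_zpowers_iff.1 hxy
    rw [← zpow_natCast, ← zpow_mul, mul_comm, zpow_mul, zpow_natCast, hy0p, one_zpow]
  have := mem_zpowers_symm hxp hx1 hy0p hxy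
  exact hy0A ((zpowers_le.2 hxa) this)

/-- **Modular case.** If some `y ∉ zpowers a` centralizes `a ^ p` (and `p` is odd or
`orderOf a ≥ 8`), the elements of order dividing `p` centralizing `a ^ p` form a normal
elementary abelian subgroup `E` of order `p ^ 2`, containing every normal subgroup of exponent
`p`; and `zpowers a` has index `p` in `C_G(a ^ p)`. -/
theorem modular {p : ℕ} [hp : Fact p.Prime] [Finite G] (hG : IsPGroup p G) {a : G} {n : ℕ}
    (ha : orderOf a = p ^ (n + 1)) (hN : (zpowers a).Normal)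
    (hC : ∀ x : G, Commute x a → x ∈ zpowers a) (hpn : p ≠ 2 ∨ 2 ≤ n)
    {y : G} (hyA : y ∉ zpowers a) (hy : Commute y (a ^ p)) :
    ∃ E : Subgroup G, (∀ w : G, w ∈ E ↔ Commute w (a ^ p) ∧ w ^ p = 1) ∧ Nat.card E = p ^ 2 ∧
      E.Normal ∧ IsMulCommutative E ∧
      (∀ V : Subgroup G, V.Normal → (∀ v ∈ V, v ^ p = 1) → V ≤ E) ∧
      (zpowers a).relIndex (centralizer ({a ^ p} : Set G)) = p := by
  obtain ⟨y0, hy0A, hy0p, hy0⟩ : ∃ y0 : G, y0 ∉ zpowers a ∧ y0 ^ p = 1 ∧ Commute y0 (a ^ p) := by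
    by_cases hp2 : p = 2
    · subst hp2
      have hn2 : 2 ≤ n := hpn.resolve_left (by simp)
      obtain ⟨m, rfl⟩ : ∃ m, n = m + 2 := ⟨n - 2, by omega⟩
      exact exists_order_two hG ha hN hC hyA hy
    · exact exists_order_p_odd hp2 hG ha hN hC hyA hy
  have haux := modular_aux hG ha hN hC hy0A hy0
  set z : G := a ^ p ^ n with hz
  have hzp : z ^ p = 1 := pow_pow_eq_one ha
  have hz1 : z ≠ 1 := pow_ne_one ha
  have hzA : z ∈ zpowers a := pow_mem (mem_zpowers a) _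
  have hzc : ∀ g : G, g * z * g⁻¹ = z := conj_eq_of_pow_eq_one hG ha hN hzA hzp
  haveI hzN : (zpowers z).Normal := by
    refine ⟨fun x hx g => ?_⟩
    obtain ⟨k, rfl⟩ := mem_zpowers_iff.1 hx
    rw [← conj_zpow, hzc]; exact zpow_mem (mem_zpowers z) k
  have hy01 : y0 ≠ 1 := fun h => hy0A (h ▸ one_mem _)
  have hP1 : ∀ w : G, Commute w (a ^ p) → w ^ p = 1 → w ∈ zpowers y0 ⊔ zpowers z := by
    intro w hw hwp
    obtain ⟨i, hi⟩ := haux w hw
    set b : G := (y0 ^ i)⁻¹ * w with hb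
    have hwb : w = y0 ^ i * b := by rw [hb]; group
    by_cases hp2 : p = 2
    · subst hp2
      have hn2 : 2 ≤ n := hpn.resolve_left (by simp)
      obtain ⟨m, rfl⟩ : ∃ m, n = m + 2 := ⟨n - 2, by omega⟩
      have hmod := pow_eq_pow_mod i hy0p
      rcases Nat.mod_two_eq_zero_or_one i with h0 | h1
      · rw [h0, pow_zero] at hmod
        rw [hmod, one_mul] at hwb
        rw [hwb]
        rw [hwb] at hwp
        exact mem_sup_right (mem_zpowers_pow_of_pow_eq_one ha hi hwp)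
      · rw [h1, pow_one] at hmod
        rw [hmod] at hwb
        have hya := conj_eq_two hG ha hN hC hy0A hy0
        have h3 : (y0 * b) ^ 2 = (y0 * b * y0⁻¹) * (y0 ^ 2) * b := by
          rw [pow_two, pow_two]; group
        rw [hwb, h3, conj_two hya hi, hy0p, mul_one] at hwp
        have h4 : b ^ (2 ^ (m + 2) + 2) = 1 := by
          rw [← hwp, show 2 ^ (m + 2) + 2 = 1 + 2 ^ (m + 2) + 1 by ring, pow_add, pow_add, pow_one]
        have h5 : b ^ 2 ^ (m + 2 + 1) = 1 := pow_mem_eq_one ha hi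
        have h6 : b ^ 4 = 1 := by
          have : (b ^ (2 ^ (m + 2) + 2)) ^ 2 = b ^ 2 ^ (m + 2 + 1) * b ^ 4 := by
            rw [← pow_mul, ← pow_add]; congr 1; ring
          rw [h4, h5, one_pow, one_mul] at this
          exact this.symm
        have h7 : b ^ 2 ^ (m + 2) = 1 := by
          have : 2 ^ (m + 2) = 4 * 2 ^ m := by ring
          rw [this, pow_mul, h6, one_pow]
        have h8 : b ^ 2 = 1 := by rw [pow_add, h7, one_mul] at h4; exact h4
        rw [hwb]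
        exact mul_mem_sup (mem_zpowers y0) (mem_zpowers_pow_of_pow_eq_one ha hi h8)
    · have h3 := mul_pow_prime hp2 hG ha hN (hy0.pow_left i) hi
      rw [← hwb, hwp, ← pow_mul, mul_comm, pow_mul, hy0p, one_pow, one_mul] at h3
      rw [hwb]
      exact mul_mem_sup (pow_mem (mem_zpowers y0) i)
        (mem_zpowers_pow_of_pow_eq_one ha hi h3.symm)
  have hE1 : ∀ w : G, w ∈ zpowers y0 ⊔ zpowers z → Commute w (a ^ p) ∧ w ^ p = 1 := by
    intro w hw
    obtain ⟨u, hu, v, hv, rfl⟩ := mem_sup_of_normal_right.1 hw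
    have hvA : v ∈ zpowers a := (zpowers_le.2 hzA) hv
    have hup : u ^ p = 1 := by
      obtain ⟨k, rfl⟩ := mem_zpowers_iff.1 hu
      rw [← zpow_natCast, ← zpow_mul, mul_comm, zpow_mul, zpow_natCast, hy0p, one_zpow]
    have hvp : v ^ p = 1 := by
      obtain ⟨k, rfl⟩ := mem_zpowers_iff.1 hv
      rw [← zpow_natCast, ← zpow_mul, mul_comm, zpow_mul, zpow_natCast, hzp, one_zpow]
    have hucomm : Commute u (a ^ p) := by
      obtain ⟨k, rfl⟩ := mem_zpowers_iff.1 hu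
      exact hy0.zpow_left k
    have huv : Commute u v := commute_of_conj_eq (conj_eq_of_pow_eq_one hG ha hN hvA hvp u)
    refine ⟨hucomm.mul_left (commute_of_mem_zpowers hvA (pow_mem (mem_zpowers a) p)), ?_⟩
    rw [huv.mul_pow, hup, hvp, one_mul]
  have hcard : Nat.card (zpowers y0 ⊔ zpowers z : Subgroup G) = p ^ 2 := by
    have h1 : Nat.card (zpowers y0 ⊔ zpowers z : Subgroup G)
        = Nat.card (zpowers z) * (zpowers z).relIndex (zpowers y0) := by
      rw [← relIndex_bot_left, ← relIndex_mul_relIndex ⊥ (zpowers z) (zpowers y0 ⊔ zpowers z)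
        bot_le le_sup_right, relIndex_bot_left, relIndex_sup_right]
    have h2 : zpowers z ⊓ zpowers y0 = ⊥ := by
      rw [eq_bot_iff]
      exact le_trans (inf_le_inf_right _ (zpowers_le.2 hzA))
        (le_of_eq (zpowers_inf_eq_bot hy0A hy0p))
    rw [h1, ← inf_relIndex_right, h2, relIndex_bot_left, Nat.card_zpowers, Nat.card_zpowers,
      orderOf_eq_prime hzp hz1, orderOf_eq_prime hy0p hy01, pow_two]
  have hnormal : (zpowers y0 ⊔ zpowers z).Normal := by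
    refine ⟨fun w hw g => ?_⟩
    obtain ⟨hwc, hwp⟩ := hE1 w hw
    apply hP1
    · obtain ⟨r, hr⟩ := conj_eq_zpow hN g⁻¹
      have h1 := conj_zpow_of_conj hr (p : ℤ)
      rw [inv_inv, zpow_natCast] at h1
      have h2 : Commute w (g⁻¹ * a ^ p * g) := by rw [h1]; exact hwc.zpow_right r
      show g * w * g⁻¹ * a ^ p = a ^ p * (g * w * g⁻¹)
      have h3 := h2.eq
      calc g * w * g⁻¹ * a ^ p = g * (w * (g⁻¹ * a ^ p * g)) * g⁻¹ := by group
        _ = g * (g⁻¹ * a ^ p * g * w) * g⁻¹ := by rw [h3]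
        _ = a ^ p * (g * w * g⁻¹) := by group
    · rw [conj_pow, hwp, mul_one, mul_inv_cancel]
  have hP3 : ∀ V : Subgroup G, V.Normal → (∀ v ∈ V, v ^ p = 1) →
      V ≤ zpowers y0 ⊔ zpowers z := by
    intro V hV hVp v hv
    set d : G := v * a * v⁻¹ * a⁻¹ with hd
    have hdV : d ∈ V := by
      have : d = v * (a * v⁻¹ * a⁻¹) := by rw [hd]; group
      rw [this]; exact mul_mem hv (hV.conj_mem _ (inv_mem hv) a)
    have hdA : d ∈ zpowers a :=
      mul_mem (hN.conj_mem a (mem_zpowers a) v) (inv_mem (mem_zpowers a))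
    have hdp := hVp d hdV
    have hva : v * a * v⁻¹ = d * a := by rw [hd]; group
    have hda : Commute d a := commute_of_mem_zpowers hdA (mem_zpowers a)
    apply hP1 v _ (hVp v hv)
    apply commute_of_conj_eq
    rw [← conj_pow, hva, hda.mul_pow, hdp, one_mul]
  have hM : centralizer ({a ^ p} : Set G) = zpowers y0 ⊔ zpowers a := by
    apply le_antisymm
    · intro w hw
      rw [mem_centralizer_singleton_iff] at hw
      obtain ⟨i, hi⟩ := haux w hw
      have : w = y0 ^ i * ((y0 ^ i)⁻¹ * w) := by group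
      rw [this]; exact mul_mem_sup (pow_mem (mem_zpowers y0) i) hi
    · rw [sup_le_iff, zpowers_le, zpowers_le, mem_centralizer_singleton_iff,
        mem_centralizer_singleton_iff]
      exact ⟨hy0.eq, ((Commute.refl a).pow_right p).eq⟩
  refine ⟨zpowers y0 ⊔ zpowers z, fun w => ⟨hE1 w, fun h => hP1 w h.1 h.2⟩, hcard, hnormal,
    IsPGroup.isMulCommutative_of_card_eq_prime_sq hcard, hP3, ?_⟩
  haveI := hN
  rw [hM, relIndex_sup_right, ← inf_relIndex_right, zpowers_inf_eq_bot hy0A hy0p,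
    relIndex_bot_left, Nat.card_zpowers, orderOf_eq_prime hy0p hy01]

/-- `p` odd: the modular case always occurs (unless `G = zpowers a`). -/
theorem exists_modular_of_odd {p : ℕ} [hp : Fact p.Prime] (hp2 : p ≠ 2) (hG : IsPGroup p G)
    {a : G} {n : ℕ} (ha : orderOf a = p ^ (n + 1)) (hN : (zpowers a).Normal)
    {x : G} (hx : x ∉ zpowers a) : ∃ y : G, y ∉ zpowers a ∧ Commute y (a ^ p) := by
  obtain ⟨j, hyA, hypA⟩ := exists_pow_not_mem hG (zpowers a) hx
  refine ⟨x ^ p ^ j, hyA, ?_⟩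
  generalize x ^ p ^ j = y at hyA hypA
  obtain ⟨r, hr⟩ := conj_eq_zpow hN y
  have h1 := pow_conj_of_conj hr p
  have h2 : y ^ p * a * (y ^ p)⁻¹ = a := by
    rw [(commute_of_mem_zpowers hypA (mem_zpowers a)).eq, mul_inv_cancel_right]
  have h3 : a ^ (r ^ p - 1) = 1 := by rw [zpow_sub, zpow_one, ← h1, h2, mul_inv_cancel]
  have h4 : ((p ^ (n + 1) : ℕ) : ℤ) ∣ r ^ p - 1 := by
    rw [← ha]; exact orderOf_dvd_iff_zpow_eq_one.2 h3
  obtain ⟨t, ht⟩ := dvd_sub_one_of_pow_dvd hp.out hp2 (dvd_sub_one_of_conj hG ha hr) h4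
  apply commute_of_conj_eq
  have h6 := conj_zpow_of_conj hr (p : ℤ)
  rw [zpow_natCast] at h6
  have h7 : (a ^ p) ^ (((p ^ n : ℕ) : ℤ) * t) = 1 := by
    rw [← zpow_natCast a p, ← zpow_mul]
    have : (p : ℤ) * (((p ^ n : ℕ) : ℤ) * t) = ((p ^ (n + 1) : ℕ) : ℤ) * t := by
      push_cast; ring
    rw [this, zpow_mul, zpow_natCast, ← ha, pow_orderOf_eq_one, one_zpow]
  have h8 : r = 1 + ((p ^ n : ℕ) : ℤ) * t := by linarith
  rw [h6, h8, zpow_add, zpow_one, h7, mul_one]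

/-- `p = 2`, non-modular case: `zpowers a` has index `2`, and some `x` outside inverts `a`
(dihedral or quaternion type) or maps `a` to `a⁻¹ * a ^ (2 ^ n)` (semidihedral type). -/
theorem nonmodular [Finite G] (hG : IsPGroup 2 G) {a : G} {n : ℕ}
    (ha : orderOf a = 2 ^ (n + 1)) (hn : 1 ≤ n) (hN : (zpowers a).Normal)
    (hC : ∀ x : G, Commute x a → x ∈ zpowers a)
    (hM : n = 1 ∨ ∀ y : G, Commute y (a ^ 2) → y ∈ zpowers a)
    {x0 : G} (hx0 : x0 ∉ zpowers a) :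
    Nat.card G = 2 ^ (n + 2) ∧ ∃ x : G, x ∉ zpowers a ∧
      ((x * a * x⁻¹ = a⁻¹ ∧ (x * x = 1 ∨ x * x = a ^ 2 ^ n)) ∨
       (2 ≤ n ∧ x * a * x⁻¹ = a⁻¹ * a ^ 2 ^ n ∧ x * x = 1)) := by
  have : Fact (Nat.Prime 2) := ⟨Nat.prime_two⟩
  set z : G := a ^ 2 ^ n with hz
  have hzp : z ^ 2 = 1 := pow_pow_eq_one ha
  have hzz : z * z = 1 := by rw [← pow_two]; exact hzp
  have hzA : z ∈ zpowers a := pow_mem (mem_zpowers a) _
  have hzc : ∀ g : G, g * z * g⁻¹ = z := conj_eq_of_pow_eq_one hG ha hN hzA hzp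
  have hN1 : ∀ w : G, w ∉ zpowers a → w * w ∈ zpowers a →
      (w * a * w⁻¹ = a⁻¹ ∨ (2 ≤ n ∧ w * a * w⁻¹ = a⁻¹ * z)) := by
    intro w hw hww
    obtain ⟨r, hr⟩ := conj_eq_zpow hN w
    have h1 := pow_conj_of_conj hr 2
    have h2 : w ^ 2 * a * (w ^ 2)⁻¹ = a := by
      rw [pow_two, (commute_of_mem_zpowers hww (mem_zpowers a)).eq, mul_inv_cancel_right]
    have h3 : a ^ (r * r - 1) = 1 := by
      rw [zpow_sub, zpow_one, ← pow_two, ← h1, h2, mul_inv_cancel]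
    rcases Cfsg.Agent.S0646.zpow_sq_sub_one hn ha h3 with h | h | h | h
    · exfalso; apply hw; apply hC; apply commute_of_conj_eq; rw [hr, h]
    · rcases hM with h1 | hM
      · left
        rw [hr, h]
        subst h1
        have h4 : a ^ 4 = 1 := by
          have := pow_orderOf_eq_one a
          rw [ha] at this; norm_num at this; exact this
        apply eq_inv_of_mul_eq_one_left
        rw [← h4]; group
      · exfalso; apply hw; apply hM; apply commute_of_conj_eq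
        rw [← conj_pow, hr, h]
        have : (a * a ^ 2 ^ n) ^ 2 = a ^ 2 * a ^ 2 ^ (n + 1) := by
          rw [← pow_succ', ← pow_mul, ← pow_add]; congr 1; ring
        rw [this, ← ha, pow_orderOf_eq_one, mul_one]
    · left; rw [hr, h]
    · by_cases h2 : 2 ≤ n
      · right; exact ⟨h2, by rw [hr, h]⟩
      · exfalso
        have h1 : n = 1 := by omega
        subst h1
        apply hw; apply hC; apply commute_of_conj_eq
        rw [hr, h, pow_one, pow_two]; group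
  have hN2 : ∀ w : G, w ∉ zpowers a → w * w ∈ zpowers a := by
    intro w hw
    by_contra hww
    obtain ⟨j, huA, hu2A⟩ := exists_pow_not_mem hG (zpowers a) hww
    set t : G := w ^ 2 ^ j with ht
    have htt : (w * w) ^ 2 ^ j = t * t := by rw [ht, (Commute.refl w).mul_pow]
    rw [htt] at huA hu2A
    obtain ⟨r, hr⟩ := conj_eq_zpow hN t
    have h1 := pow_conj_of_conj hr 2
    rw [pow_two] at h1
    have h4 : ¬ (4 : ℤ) ∣ r ^ 2 + 1 := by
      rintro ⟨q, hq⟩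
      rcases Int.emod_two_eq_zero_or_one r with h | h
      · obtain ⟨s, hs⟩ : ∃ s, r = 2 * s := ⟨r / 2, by omega⟩
        rw [hs] at hq
        have : (2 * s) ^ 2 + 1 = 4 * (s ^ 2) + 1 := by ring
        omega
      · obtain ⟨s, hs⟩ : ∃ s, r = 2 * s + 1 := ⟨r / 2, by omega⟩
        rw [hs] at hq
        have : (2 * s + 1) ^ 2 + 1 = 4 * (s ^ 2 + s) + 2 := by ring
        omega
    rcases hN1 (t * t) huA (by rw [← pow_two]; exact hu2A) with h | ⟨h2, h⟩
    · rw [h1] at h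
      apply h4
      have h5 : a ^ (r ^ 2 + 1) = 1 := by rw [zpow_add, zpow_one, h, inv_mul_cancel]
      have h6 : ((2 ^ (n + 1) : ℕ) : ℤ) ∣ r ^ 2 + 1 := by
        rw [← ha]; exact orderOf_dvd_iff_zpow_eq_one.2 h5
      have h7 : (4 : ℤ) ∣ ((2 ^ (n + 1) : ℕ) : ℤ) := by
        obtain ⟨k, rfl⟩ : ∃ k, n = k + 1 := ⟨n - 1, by omega⟩
        exact ⟨2 ^ k, by push_cast; ring⟩
      exact dvd_trans h7 h6
    · rw [h1] at h
      apply h4
      have h5 : a ^ (r ^ 2 + 1 - ((2 ^ n : ℕ) : ℤ)) = 1 := by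
        rw [zpow_sub, zpow_add, zpow_one, h, zpow_natCast, hz]; group
      have h6 : ((2 ^ (n + 1) : ℕ) : ℤ) ∣ r ^ 2 + 1 - ((2 ^ n : ℕ) : ℤ) := by
        rw [← ha]; exact orderOf_dvd_iff_zpow_eq_one.2 h5
      obtain ⟨k, rfl⟩ : ∃ k, n = k + 2 := ⟨n - 2, by omega⟩
      obtain ⟨q, hq⟩ := h6
      refine ⟨2 ^ (k + 1) * q + 2 ^ k, ?_⟩
      push_cast at hq ⊢
      linear_combination hq
  have hN1' : ∀ w : G, w ∉ zpowers a →
      ∃ ε : G, (ε = 1 ∨ (2 ≤ n ∧ ε = z)) ∧ w * a * w⁻¹ = a⁻¹ * ε := by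
    intro w hw
    rcases hN1 w hw (hN2 w hw) with h | ⟨h2, h⟩
    · exact ⟨1, Or.inl rfl, by rw [h, mul_one]⟩
    · exact ⟨z, Or.inr ⟨h2, rfl⟩, h⟩
  have hN3 : ∀ w w' : G, w ∉ zpowers a → w' ∉ zpowers a → w * w' ∈ zpowers a := by
    intro w w' hw hw'
    obtain ⟨ε, hε, h⟩ := hN1' w hw
    obtain ⟨ε', hε', h'⟩ := hN1' w' hw'
    have hεA : ε ∈ zpowers a := by
      rcases hε with rfl | ⟨-, rfl⟩
      exacts [one_mem _, hzA]
    have hεε : ε * ε = 1 := by
      rcases hε with rfl | ⟨-, rfl⟩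
      exacts [one_mul 1, hzz]
    have hε'c : w * ε' * w⁻¹ = ε' := by
      rcases hε' with rfl | ⟨-, rfl⟩
      exacts [by simp, hzc w]
    have hεa : Commute ε a := commute_of_mem_zpowers hεA (mem_zpowers a)
    have key : w * w' * a * (w * w')⁻¹ = a * (ε * ε') := by
      calc w * w' * a * (w * w')⁻¹ = w * (w' * a * w'⁻¹) * w⁻¹ := by group
        _ = (w * a * w⁻¹)⁻¹ * (w * ε' * w⁻¹) := by rw [h']; group
        _ = (a⁻¹ * ε)⁻¹ * ε' := by rw [h, hε'c]
        _ = a * (ε * ε') := by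
          rw [mul_inv_rev, inv_inv, inv_eq_of_mul_eq_one_left hεε, hεa.eq, mul_assoc]
    have hcases : ε * ε' = 1 ∨ (2 ≤ n ∧ ε * ε' = z) := by
      rcases hε with rfl | ⟨h2, rfl⟩ <;> rcases hε' with rfl | ⟨h2', rfl⟩
      · left; simp
      · right; exact ⟨h2', one_mul _⟩
      · right; exact ⟨h2, mul_one _⟩
      · left; exact hzz
    rcases hcases with h1 | ⟨h2, h1⟩
    · apply hC; apply commute_of_conj_eq; rw [key, h1, mul_one]
    · rcases hM with hM | hM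
      · omega
      · apply hM; apply commute_of_conj_eq
        rw [← conj_pow, key, h1, (commute_of_mem_zpowers (mem_zpowers a) hzA).mul_pow, hzp,
          mul_one]
  have hidx : (zpowers a).index = 2 := by
    rw [index_eq_two_iff]
    refine ⟨x0, fun b => ?_⟩
    by_cases hb : b ∈ zpowers a
    · refine Or.inr ⟨hb, fun h => hx0 ?_⟩
      have := mul_mem (inv_mem hb) h
      rwa [inv_mul_cancel_left] at this
    · exact Or.inl ⟨hN3 b x0 hb hx0, hb⟩
  have hcard : Nat.card G = 2 ^ (n + 2) := by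
    rw [← (zpowers a).card_mul_index, hidx, Nat.card_zpowers, ha]; ring
  refine ⟨hcard, ?_⟩
  have hx2A := hN2 x0 hx0
  rcases hN1 x0 hx0 hx2A with h | ⟨h2, h⟩
  · refine ⟨x0, hx0, Or.inl ⟨h, ?_⟩⟩
    have h1 : x0 * (x0 * x0) * x0⁻¹ = (x0 * x0)⁻¹ := by
      have := conj_mem_of_conj (r := -1) (by rw [h, zpow_neg_one]) hx2A
      rw [this, zpow_neg_one]
    have h2 : (x0 * x0) ^ 2 = 1 := by
      have h3 : x0 * (x0 * x0) * x0⁻¹ = x0 * x0 := by group
      rw [h3] at h1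
      rw [pow_two]
      nth_rewrite 2 [h1]
      exact mul_inv_cancel _
    by_cases h3 : x0 * x0 = 1
    · left; exact h3
    · right
      exact Cfsg.Agent.Lib.Helper54.Quaternion.eq_pow_half_of_mem_zpowers
        (by rw [ha, pow_succ']) (orderOf_eq_prime h2 h3) hx2A
  · have h1 : x0 * (x0 * x0) * x0⁻¹ = (x0 * x0)⁻¹ * (x0 * x0) ^ 2 ^ n := by
      have hr : x0 * a * x0⁻¹ = a ^ (-1 + ((2 ^ n : ℕ) : ℤ)) := by
        rw [h, hz, zpow_add, zpow_neg_one, zpow_natCast]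
      rw [conj_mem_of_conj hr hx2A, zpow_add, zpow_neg_one, zpow_natCast]
    have h1' : x0 * (x0 * x0) * x0⁻¹ = x0 * x0 := by group
    rw [h1'] at h1
    obtain ⟨b, hb⟩ : ∃ b, b = x0 * x0 := ⟨_, rfl⟩
    rw [← hb] at h1 hx2A
    have h4 : b ^ 2 = b ^ 2 ^ n := by
      calc b ^ 2 = b * b := pow_two b
        _ = b * (b⁻¹ * b ^ 2 ^ n) := by rw [← h1]
        _ = b ^ 2 ^ n := by group
    have h5 : b ^ 2 ^ (n + 1) = 1 := pow_mem_eq_one ha hx2A
    have h6 : b ^ 4 = 1 := by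
      have : b ^ 4 = (b ^ 2) ^ 2 := by rw [← pow_mul]
      rw [this, h4, ← pow_mul, ← pow_succ, h5]
    have h7 : b ^ 2 ^ n = 1 := by
      obtain ⟨k, rfl⟩ : ∃ k, n = k + 2 := ⟨n - 2, by omega⟩
      have : 2 ^ (k + 2) = 4 * 2 ^ k := by ring
      rw [this, pow_mul, h6, one_pow]
    have h8 : b ^ 2 = 1 := by rw [h4, h7]
    by_cases h9 : b = 1
    · exact ⟨x0, hx0, Or.inr ⟨h2, h, by rw [← hb, h9]⟩⟩
    · have hbz : b = z := Cfsg.Agent.Lib.Helper54.Quaternion.eq_pow_half_of_mem_zpowers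
        (by rw [ha, pow_succ']) (orderOf_eq_prime h8 h9) hx2A
      refine ⟨x0 * a, ?_, Or.inr ⟨h2, ?_, ?_⟩⟩
      · intro hc; apply hx0
        have := mul_mem hc (inv_mem (mem_zpowers a))
        rwa [mul_inv_cancel_right] at this
      · rw [← h]; group
      · calc x0 * a * (x0 * a) = (x0 * a * x0⁻¹) * (x0 * x0) * a := by group
          _ = a⁻¹ * z * z * a := by rw [h, ← hb, hbz]
          _ = 1 := by rw [mul_assoc a⁻¹, hzz, mul_one, inv_mul_cancel]

/-- Identification of the non-modular groups: dihedral, generalized quaternion or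
quasi-dihedral. -/
theorem iso_of_nonmodular [Finite G] {a x : G} {n : ℕ}
    (ha : orderOf a = 2 ^ (n + 1)) (hcard : Nat.card G = 2 ^ (n + 2)) (hx : x ∉ zpowers a)
    (h : (x * a * x⁻¹ = a⁻¹ ∧ (x * x = 1 ∨ x * x = a ^ 2 ^ n)) ∨
       (2 ≤ n ∧ x * a * x⁻¹ = a⁻¹ * a ^ 2 ^ n ∧ x * x = 1)) :
    Nonempty (G ≃* DihedralGroup (2 ^ (n + 1))) ∨ Nonempty (G ≃* QuaternionGroup (2 ^ n)) ∨
      Cfsg.IsQuasiDihedral G := by
  rcases h with ⟨h1, h2 | h2⟩ | ⟨hn, h1, h2⟩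
  · left
    exact Cfsg.Agent.S3224.dihedral_iso a x (2 ^ (n + 1)) ha (by positivity)
      (by rw [hcard, pow_succ']) h2 hx h1
  · right; left
    exact Cfsg.Agent.Lib.Helper54.Quaternion.quaternion_iso a x (2 ^ n) (by rw [ha, pow_succ'])
      (by positivity) (by rw [hcard]; ring) h2 hx h1
  · right; right
    have : Fact (Nat.Prime 2) := ⟨Nat.prime_two⟩
    refine ⟨n + 1, by omega, hcard, a, x, ha, ?_, ?_⟩
    · exact orderOf_eq_prime (by rw [pow_two]; exact h2) (fun h => hx (h ▸ one_mem _))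
    · rw [h1, Nat.add_sub_cancel, inv_mul_eq_iff_eq_mul, ← pow_succ']
      congr 1
      have : 1 ≤ 2 ^ n := Nat.one_le_two_pow
      omega

/-- A finite `p`-group all of whose normal abelian subgroups are cyclic has a normal cyclic
subgroup equal to its own centralizer. -/
theorem exists_selfcentralizing_of_cyclic {p : ℕ} [hp : Fact p.Prime] [Finite G]
    (hG : IsPGroup p G)
    (hn : ∀ A : Subgroup G, A.Normal → IsMulCommutative A → IsCyclic A) :
    ∃ a : G, (zpowers a).Normal ∧ ∀ x : G, Commute x a → x ∈ zpowers a := by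
  have : Group.IsNilpotent G := hG.isNilpotent
  obtain ⟨A, ⟨hAn, hAc⟩, -, hmax⟩ := Cfsg.Agent.Lib.Helper24.PGroupBasic.exists_maximal_subgroup
    (fun M : Subgroup G => M.Normal ∧ ∀ a ∈ M, ∀ b ∈ M, a * b = b * a) ⊥
    ⟨inferInstance, by intro a ha b hb; rw [mem_bot] at ha hb; rw [ha, hb]⟩
  have hcent := Cfsg.Agent.Lib.Helper24.PGroupBasic.centralizer_eq_of_max_normal_abelian A hAc
    (fun M hMn hMc hle => hmax M ⟨hMn, hMc⟩ hle)
  have hcyc : IsCyclic ↥A := hn A hAn ⟨⟨fun x y => Subtype.ext (hAc x x.2 y y.2)⟩⟩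
  obtain ⟨a, ha⟩ := hcyc.exists_generator
  have hAeq : A = zpowers (a : G) := by
    apply le_antisymm
    · intro x hx
      obtain ⟨i, hi⟩ := mem_zpowers_iff.1 (ha ⟨x, hx⟩)
      rw [mem_zpowers_iff]; exact ⟨i, by simpa using congrArg Subtype.val hi⟩
    · exact zpowers_le.2 a.2
  refine ⟨a, hAeq ▸ hAn, ?_⟩
  intro x hx
  rw [← hAeq, ← hcent, mem_centralizer_iff]
  intro y hy
  have hy' : y ∈ zpowers (a : G) := hAeq ▸ hy
  obtain ⟨i, rfl⟩ := mem_zpowers_iff.1 hy'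
  exact ((Commute.zpow_right hx i).eq).symm

theorem not_isCyclic_of_exp {p : ℕ} [hp : Fact p.Prime] [Finite G] (E : Subgroup G)
    (hcard : Nat.card E = p ^ 2) (hexp : ∀ w ∈ E, w ^ p = 1) : ¬ IsCyclic E := by
  intro hcyc
  obtain ⟨g, hg⟩ := hcyc.exists_generator
  have h1 : orderOf g = Nat.card E := orderOf_eq_card_of_forall_mem_zpowers hg
  have h2 : g ^ p = 1 := Subtype.ext (by simpa using hexp g g.2)
  have h3 := orderOf_dvd_of_pow_eq_one h2
  rw [h1, hcard] at h3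
  have h4 := Nat.le_of_dvd hp.out.pos h3
  have h5 : p < p ^ 2 := by
    have := hp.out.one_lt
    nlinarith
  omega

/-- A finite `p`-group all of whose normal abelian subgroups are cyclic is cyclic, or `p = 2`
and it has a cyclic maximal subgroup `zpowers a` with an element `x` outside acting by inversion
(dihedral / quaternion) or by `a ↦ a⁻¹ * a ^ (2 ^ n)` (semidihedral). -/
theorem cyclic_or_two {p : ℕ} [hp : Fact p.Prime] [Finite G] (hG : IsPGroup p G)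
    (hn : ∀ A : Subgroup G, A.Normal → IsMulCommutative A → IsCyclic A) :
    IsCyclic G ∨ (p = 2 ∧ ∃ (a x : G) (n : ℕ), 1 ≤ n ∧ orderOf a = 2 ^ (n + 1) ∧
      (zpowers a).Normal ∧ (∀ y : G, Commute y a → y ∈ zpowers a) ∧
      Nat.card G = 2 ^ (n + 2) ∧ x ∉ zpowers a ∧
      ((x * a * x⁻¹ = a⁻¹ ∧ (x * x = 1 ∨ x * x = a ^ 2 ^ n)) ∨
       (2 ≤ n ∧ x * a * x⁻¹ = a⁻¹ * a ^ 2 ^ n ∧ x * x = 1))) := by
  obtain ⟨a, hN, hC⟩ := exists_selfcentralizing_of_cyclic hG hn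
  by_cases htop : ∀ x : G, x ∈ zpowers a
  · left; exact isCyclic_iff_exists_zpowers_eq_top.2 ⟨a, eq_top_iff.2 (fun x _ => htop x)⟩
  right
  push Not at htop
  obtain ⟨x0, hx0⟩ := htop
  obtain ⟨k, hk⟩ := IsPGroup.iff_orderOf.1 hG a
  have hk0 : k ≠ 0 := by
    rintro rfl
    rw [pow_zero, orderOf_eq_one_iff] at hk
    exact hx0 (hC x0 (by rw [hk]; exact Commute.one_right x0))
  obtain ⟨n, rfl⟩ := Nat.exists_eq_succ_of_ne_zero hk0
  have hn0 : n ≠ 0 := by
    rintro rfl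
    apply hx0; apply hC; apply commute_of_conj_eq
    exact conj_eq_of_pow_eq_one hG hk hN (mem_zpowers a)
      (by rw [← pow_orderOf_eq_one a, hk]; simp) x0
  have hnomod : ∀ y : G, (p ≠ 2 ∨ 2 ≤ n) → y ∉ zpowers a → Commute y (a ^ p) → False := by
    intro y hpn hyA hy
    obtain ⟨E, hE, hcard, hEn, hEc, -, -⟩ := modular hG hk hN hC hpn hyA hy
    exact not_isCyclic_of_exp E hcard (fun w hw => ((hE w).1 hw).2) (hn E hEn hEc)
  by_cases hp2 : p = 2
  · subst hp2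
    refine ⟨rfl, ?_⟩
    have hM : n = 1 ∨ ∀ y : G, Commute y (a ^ 2) → y ∈ zpowers a := by
      by_cases h1 : n = 1
      · left; exact h1
      · right
        intro y hy
        by_contra hyA
        exact hnomod y (Or.inr (by omega)) hyA hy
    obtain ⟨hcard, x, hx, hcases⟩ := nonmodular hG hk (by omega) hN hC hM hx0
    exact ⟨a, x, n, by omega, hk, hN, hC, hcard, hx, hcases⟩
  · exfalso
    obtain ⟨y, hyA, hy⟩ := exists_modular_of_odd hp2 hG hk hN hx0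
    exact hnomod y (Or.inl hp2) hyA hy

end Cfsg.Agent.Lib.Helper54.CyclicNormal
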