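import Mathlib
import Cfsg.Agent.Lib.Helper54.FpfNorm

/-!
Groups acting fixed-point-freely (by conjugation inside a finite group) on a subgroup `V`.

Main results:
* `ui_of_fpf'`, `coprime_card_of_fpf'`: versions of the results of `FpfNorm` where `V` is only
  assumed to be normalized by the acting elements;
* `natCast_eq_zero_of_card`: the norm argument for a noncyclic group of order `p * q`;
* `isCyclic_of_fpf`: a group acting fixed-point-freely on a nontrivial commutative subgroup
  is cyclic if it is commutative or of order `p * q`.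
-/

namespace Cfsg.Agent.Lib.Helper54.FpfCyclic

open Subgroup Cfsg.Agent.Lib.Helper54.UniqueSubgroup Cfsg.Agent.Lib.Helper54.FpfNorm

/-- Version of `coprime_card_of_fpf` for a subgroup normalized by `u`. -/
theorem coprime_card_of_fpf' {G : Type*} [Group G] [Finite G] (V : Subgroup G) {p : ℕ}
    [hp : Fact p.Prime] {u : G} (hu : u ∈ normalizer (V : Set G)) (hup : u ^ p = 1)
    (h : ∀ x ∈ V, u * x = x * u → x = 1) : (Nat.card V).Coprime p := by
  have h1 := coprime_card_of_fpf (G := ↥(normalizer (V : Set G)))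
    (V.subgroupOf (normalizer (V : Set G))) (p := p) (u := ⟨u, hu⟩)
    (Subtype.ext (by simpa using hup)) (by
      intro x hx hc
      have hx' : (x : G) ∈ V := mem_subgroupOf.1 hx
      have := h _ hx' (congrArg Subtype.val hc)
      exact Subtype.ext this)
  rwa [Nat.card_congr (Subgroup.subgroupOfEquivOfLe le_normalizer).toEquiv] at h1

/-- Version of `ui_of_fpf` for a subgroup normalized by the acting group. -/
theorem ui_of_fpf' {G S : Type*} [Group G] [Finite G] [Group S] [Finite S] (V : Subgroup G)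
    (hV : V ≠ ⊥) {p : ℕ} [hp : Fact p.Prime] (hS : IsPGroup p S) (f : S →* G)
    (hf : ∀ s, f s ∈ normalizer (V : Set G))
    (hfpf : ∀ s : S, s ≠ 1 → ∀ x ∈ V, f s * x = x * f s → x = 1) : UI p S := by
  apply ui_of_fpf (G := ↥(normalizer (V : Set G))) (V.subgroupOf (normalizer (V : Set G))) ?_ hS
    (f.codRestrict _ hf)
  · intro s hs x hx hc
    have hx' : (x : G) ∈ V := mem_subgroupOf.1 hx
    have := hfpf s hs _ hx' (congrArg Subtype.val hc)
    exact Subtype.ext this
  · intro h
    apply hV
    rw [eq_bot_iff]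
    intro w hw
    have h1 : (⟨w, le_normalizer hw⟩ : ↥(normalizer (V : Set G))) ∈
        V.subgroupOf (normalizer (V : Set G)) := mem_subgroupOf.2 hw
    rw [h, mem_bot] at h1
    exact congrArg Subtype.val h1

/-- A finite commutative group all of whose Sylow subgroups are cyclic is cyclic. -/
theorem isCyclic_of_comm_of_sylow {A : Type*} [Group A] [Finite A] (hA : ∀ a b : A, a * b = b * a)
    (h : ∀ (p : ℕ) [Fact p.Prime] (P : Sylow p A), IsCyclic P) : IsCyclic A := by
  let _ : CommGroup A := { ‹Group A› with mul_comm := hA }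
  have : IsZGroup A := ⟨fun p hp P => by
    have : Fact p.Prime := ⟨hp⟩
    exact h p P⟩
  infer_instance

/-- The geometric sum of a fixed-point-free endomorphism of finite order vanishes. -/
theorem geom_sum_eq_zero {A : Type*} [AddCommGroup A] (e : AddMonoid.End A) (n : ℕ)
    (he : e ^ n = 1) (hfix : ∀ x : A, e x = x → x = 0) : ∑ i ∈ Finset.range n, e ^ i = 0 := by
  ext x
  apply hfix
  have h := mul_geom_sum e n
  rw [he, sub_self, sub_mul, one_mul, sub_eq_zero] at h
  have := congrArg (fun f : AddMonoid.End A => f x) h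
  simpa using this

theorem minFac_mul_of_lt {p q : ℕ} (hp : p.Prime) (hq : q.Prime) (hpq : p < q) :
    (p * q).minFac = p := by
  have h1 : (p * q).minFac ∣ p * q := Nat.minFac_dvd _
  have h2 : (p * q).minFac.Prime := Nat.minFac_prime (by
    have := hp.one_lt; have := hq.one_lt; nlinarith)
  rcases (Nat.Prime.dvd_mul h2).1 h1 with h | h
  · exact (Nat.prime_dvd_prime_iff_eq h2 hp).1 h
  · have h3 := (Nat.prime_dvd_prime_iff_eq h2 hq).1 h
    have h4 : (p * q).minFac ≤ p := Nat.minFac_le_of_dvd hp.two_le (dvd_mul_right p q)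
    omega

theorem index_zpowers_of_card {A : Type*} [Group A] [Finite A] {p q : ℕ} (hq : q.Prime)
    (hcard : Nat.card A = p * q) {y : A} (hy : orderOf y = q) : (zpowers y).index = p := by
  have h := Subgroup.card_mul_index (zpowers y)
  rw [Nat.card_zpowers, hy, hcard] at h
  have : q * (zpowers y).index = q * p := by rw [h, mul_comm]
  exact Nat.eq_of_mul_eq_mul_left hq.pos this

/-- In a group of order `p * q` with `p < q`, a subgroup of order `q` is normal. -/
theorem normal_zpowers_of_card {A : Type*} [Group A] [Finite A] {p q : ℕ} (hp : p.Prime)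
    (hq : q.Prime) (hpq : p < q) (hcard : Nat.card A = p * q) {y : A} (hy : orderOf y = q) :
    (zpowers y).Normal := by
  apply Subgroup.normal_of_index_eq_minFac_card
  rw [hcard, minFac_mul_of_lt hp hq hpq, index_zpowers_of_card hq hcard hy]

theorem not_mem_zpowers_of_orderOf {A : Type*} [Group A] {p q : ℕ} (hp : p.Prime)
    (hq : q.Prime) (hpq : p < q) {x y : A} (hy : orderOf y = q) (hx : orderOf x = p) :
    x ∉ zpowers y := by
  intro h
  obtain ⟨i, rfl⟩ := mem_zpowers_iff.1 h
  have h1 : (y ^ i) ^ q = 1 := by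
    rw [← zpow_natCast, ← zpow_mul, mul_comm, zpow_mul, zpow_natCast, ← hy, pow_orderOf_eq_one,
      one_zpow]
  have h2 : p ∣ q := hx ▸ orderOf_dvd_of_pow_eq_one h1
  have h3 := (Nat.prime_dvd_prime_iff_eq hp hq).1 h2
  omega

/-- In a noncyclic group of order `p * q` with `p < q`, the elements outside the subgroup of
order `q` have order `p`. -/
theorem pow_eq_one_of_not_isCyclic {A : Type*} [Group A] [Finite A] {p q : ℕ} (hp : p.Prime)
    (hq : q.Prime) (hpq : p < q) (hcard : Nat.card A = p * q) (hnc : ¬ IsCyclic A) {x y : A}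
    (hy : orderOf y = q) (hx : orderOf x = p) (j : ℕ) : (y ^ j * x) ^ p = 1 := by
  have hn := normal_zpowers_of_card hp hq hpq hcard hy
  have hidx := index_zpowers_of_card hq hcard hy
  have hxQ := not_mem_zpowers_of_orderOf hp hq hpq hy hx
  have heQ : y ^ j * x ∉ zpowers y := fun h => hxQ (by
    have : x = (y ^ j)⁻¹ * (y ^ j * x) := by group
    rw [this]; exact mul_mem (inv_mem (pow_mem (mem_zpowers y) j)) h)
  generalize y ^ j * x = e at heQ
  have hepQ : e ^ p ∈ zpowers y := by
    have := Subgroup.pow_index_mem (zpowers y) e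
    rwa [hidx] at this
  have hd : orderOf e ∣ p * q := hcard ▸ orderOf_dvd_natCard e
  by_cases hqd : q ∣ orderOf e
  · exfalso
    obtain ⟨d', hd'⟩ := hqd
    have hd'p : d' ∣ p := by
      rw [hd', mul_comm p q] at hd
      exact Nat.dvd_of_mul_dvd_mul_left hq.pos hd
    rcases (Nat.dvd_prime hp).1 hd'p with rfl | rfl
    · rw [mul_one] at hd'
      have hcop : IsCoprime (p : ℤ) (q : ℤ) :=
        Nat.isCoprime_iff_coprime.2 ((Nat.coprime_primes hp hq).2 hpq.ne)
      obtain ⟨a, b, hab⟩ := hcop
      apply heQ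
      have h1 : e = (e ^ p) ^ a * (e ^ q) ^ b := by
        rw [← zpow_natCast e p, ← zpow_natCast e q, ← zpow_mul, ← zpow_mul, ← zpow_add,
          mul_comm (p : ℤ) a, mul_comm (q : ℤ) b, hab, zpow_one]
      rw [h1, ← hd', pow_orderOf_eq_one, one_zpow, mul_one]
      exact zpow_mem hepQ a
    · apply hnc
      exact isCyclic_of_orderOf_eq_card e (by rw [hd', hcard, mul_comm])
  · have hcop : Nat.Coprime (orderOf e) q :=
      Nat.Coprime.symm ((Nat.Prime.coprime_iff_not_dvd hq).2 hqd)
    have : orderOf e ∣ p := hcop.dvd_of_dvd_mul_right hd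
    exact orderOf_dvd_iff_pow_eq_one.1 this

/-- The norm argument for a noncyclic group of order `p * q` (`p < q`): if all the geometric
sums of the nonidentity elements vanish in a ring, then `q = 0` in that ring. -/
theorem natCast_eq_zero_of_card {A R : Type*} [Group A] [Finite A] [Ring R] (T : A →* R)
    (hT : ∀ a : A, a ≠ 1 → ∑ i ∈ Finset.range (orderOf a), T a ^ i = 0) {p q : ℕ}
    (hp : p.Prime) (hq : q.Prime) (hpq : p < q) (hcard : Nat.card A = p * q)
    (hnc : ¬ IsCyclic A) : (q : R) = 0 := by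
  have : Fact p.Prime := ⟨hp⟩
  have : Fact q.Prime := ⟨hq⟩
  obtain ⟨x, hx⟩ := exists_prime_orderOf_dvd_card' (G := A) p (hcard ▸ dvd_mul_right p q)
  obtain ⟨y, hy⟩ := exists_prime_orderOf_dvd_card' (G := A) q (hcard ▸ dvd_mul_left q p)
  have hn := normal_zpowers_of_card hp hq hpq hcard hy
  have hF1 := pow_eq_one_of_not_isCyclic hp hq hpq hcard hnc hy hx
  have hxQ := not_mem_zpowers_of_orderOf hp hq hpq hy hx
  have he1 : ∀ j, y ^ j * x ≠ 1 := by
    intro j h
    apply hxQ
    have : x = (y ^ j)⁻¹ := eq_inv_of_mul_eq_one_right h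
    rw [this]; exact inv_mem (pow_mem (mem_zpowers y) j)
  have hoe : ∀ j, orderOf (y ^ j * x) = p := fun j => orderOf_eq_prime (hF1 j) (he1 j)
  have hy1 : y ≠ 1 := by
    rintro rfl
    rw [orderOf_one] at hy
    exact hq.ne_one hy.symm
  have h3 : ∑ j ∈ Finset.range q, ∑ i ∈ Finset.range p, T (y ^ j * x) ^ i = 0 :=
    Finset.sum_eq_zero (fun j _ => by have := hT _ (he1 j); rwa [hoe j] at this)
  rw [Finset.sum_comm] at h3
  have h4 : ∀ i ∈ Finset.range p,
      ∑ j ∈ Finset.range q, T (y ^ j * x) ^ i = if i = 0 then (q : R) else 0 := by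
    intro i hi
    split_ifs with hi0
    · subst hi0; simp
    · have hip : i < p := Finset.mem_range.1 hi
      have hex : ∀ j, ∃ k, k < q ∧ (y ^ j * x) ^ i = y ^ k * x ^ i := by
        intro j
        have hmem : (y ^ j * x) ^ i * (x ^ i)⁻¹ ∈ zpowers y := by
          rw [← QuotientGroup.eq_one_iff]
          have h5 : ((y ^ j : A) : A ⧸ zpowers y) = 1 :=
            (QuotientGroup.eq_one_iff _).2 (pow_mem (mem_zpowers y) j)
          rw [QuotientGroup.mk_mul, QuotientGroup.mk_pow, QuotientGroup.mk_mul, h5, one_mul,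
            QuotientGroup.mk_inv, QuotientGroup.mk_pow, mul_inv_cancel]
        have hfin : IsOfFinOrder y := isOfFinOrder_of_finite y
        obtain ⟨k, hk⟩ := (Submonoid.mem_powers_iff _ _).1
          (hfin.mem_powers_iff_mem_zpowers.2 hmem)
        refine ⟨k % q, Nat.mod_lt _ hq.pos, ?_⟩
        have h6 : y ^ (k % q) = y ^ k := by rw [← hy, pow_mod_orderOf]
        rw [h6, hk]; group
      choose σ hσq hσ using hex
      have hσinj : Set.InjOn σ (Finset.range q : Set ℕ) := by
        intro j hj j' hj' h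
        have h5 : (y ^ j * x) ^ i = (y ^ j' * x) ^ i := by rw [hσ, hσ, h]
        have hcop : Nat.Coprime i p :=
          Nat.Coprime.symm ((Nat.Prime.coprime_iff_not_dvd hp).2
            (Nat.not_dvd_of_pos_of_lt (Nat.pos_of_ne_zero hi0) hip))
        obtain ⟨m, -, hm⟩ := Nat.exists_mul_mod_eq_one_of_coprime hcop hp.one_lt
        have h6 : ∀ e : A, orderOf e = p → (e ^ i) ^ m = e := by
          intro e he
          rw [← pow_mul, ← pow_mod_orderOf, he, hm, pow_one]
        have h7 : y ^ j * x = y ^ j' * x := by rw [← h6 _ (hoe j), h5, h6 _ (hoe j')]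
        have h8 : y ^ j = y ^ j' := mul_right_cancel h7
        have h9 := pow_eq_pow_iff_modEq.1 h8
        rw [hy] at h9
        exact Nat.ModEq.eq_of_lt_of_lt h9 (Finset.mem_range.1 hj) (Finset.mem_range.1 hj')
      have himg : (Finset.range q).image σ = Finset.range q := by
        apply Finset.eq_of_subset_of_card_le
        · intro k hk
          obtain ⟨j, -, rfl⟩ := Finset.mem_image.1 hk
          exact Finset.mem_range.2 (hσq j)
        · rw [Finset.card_image_of_injOn hσinj]
      calc ∑ j ∈ Finset.range q, T (y ^ j * x) ^ i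
          = ∑ j ∈ Finset.range q, T y ^ (σ j) * T x ^ i := by
            apply Finset.sum_congr rfl
            intro j _
            rw [← map_pow, hσ, map_mul, map_pow, map_pow]
        _ = (∑ j ∈ Finset.range q, T y ^ (σ j)) * T x ^ i := by rw [Finset.sum_mul]
        _ = (∑ k ∈ (Finset.range q).image σ, T y ^ k) * T x ^ i := by
            rw [Finset.sum_image hσinj]
        _ = (∑ k ∈ Finset.range q, T y ^ k) * T x ^ i := by rw [himg]
        _ = 0 := by
            have := hT y hy1
            rw [hy] at this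
            rw [this, zero_mul]
  rw [Finset.sum_congr rfl h4, Finset.sum_ite_eq', if_pos (Finset.mem_range.2 hp.pos)] at h3
  exact h3

/-- Multiplicative version: a noncyclic group of order `p * q` acting on a commutative group
with all nonidentity elements fixed-point-free forces exponent `q`. -/
theorem pow_eq_one_of_card {A M : Type*} [Group A] [Finite A] [Group M]
    (hM : ∀ x y : M, x * y = y * x) (T : A →* Monoid.End M)
    (hT : ∀ a : A, a ≠ 1 → ∀ x : M, T a x = x → x = 1) {p q : ℕ} (hp : p.Prime) (hq : q.Prime)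
    (hpq : p < q) (hcard : Nat.card A = p * q) (hnc : ¬ IsCyclic A) (x : M) : x ^ q = 1 := by
  let _ : CommGroup M := { ‹Group M› with mul_comm := hM }
  have h := natCast_eq_zero_of_card ((monoidEndToAdditive M).toMonoidHom.comp T) (by
      intro a ha
      apply geom_sum_eq_zero
      · rw [← map_pow, pow_orderOf_eq_one, map_one]
      · intro y hy
        exact congrArg Additive.ofMul (hT a ha (Additive.toMul y) (congrArg Additive.toMul hy)))
    hp hq hpq hcard hnc
  have h1 := congrArg (fun f : AddMonoid.End (Additive M) => f (Additive.ofMul x)) h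
  have h2 : q • (Additive.ofMul x) = 0 := by simpa using h1
  exact congrArg Additive.toMul h2

/-- Conjugation action of the normalizer of `V` on `V`. -/
def conjEnd {G : Type*} [Group G] (V : Subgroup G) :
    ↥(normalizer (V : Set G)) →* Monoid.End ↥V where
  toFun g :=
    { toFun := fun x => ⟨(g : G) * (x : G) * (g : G)⁻¹, (mem_normalizer_iff.1 g.2 _).1 x.2⟩
      map_one' := Subtype.ext (by simp)
      map_mul' := fun x y => Subtype.ext (by simp) }
  map_one' := MonoidHom.ext (fun x => Subtype.ext (by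
    show ((1 : ↥(normalizer (V : Set G))) : G) * (x : G) *
      ((1 : ↥(normalizer (V : Set G))) : G)⁻¹ = (x : G)
    simp))
  map_mul' := fun g h => MonoidHom.ext (fun x => Subtype.ext (by
    show ((g * h : ↥(normalizer (V : Set G))) : G) * (x : G) *
      ((g * h : ↥(normalizer (V : Set G))) : G)⁻¹ =
      (g : G) * ((h : G) * (x : G) * (h : G)⁻¹) * (g : G)⁻¹
    simp [mul_assoc]))

theorem conjEnd_apply {G : Type*} [Group G] (V : Subgroup G) (g : ↥(normalizer (V : Set G)))
    (x : ↥V) : ((conjEnd V g x : ↥V) : G) = (g : G) * (x : G) * (g : G)⁻¹ := rfl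

/-- A commutative group acting fixed-point-freely on a nontrivial subgroup is cyclic. -/
theorem isCyclic_of_fpf_comm {G : Type*} [Group G] [Finite G] (A V : Subgroup G) (hV : V ≠ ⊥)
    (hAV : A ≤ normalizer (V : Set G))
    (hfpf : ∀ a ∈ A, a ≠ 1 → ∀ x ∈ V, a * x = x * a → x = 1)
    (hA : ∀ a b : ↥A, a * b = b * a) : IsCyclic ↥A := by
  apply isCyclic_of_comm_of_sylow hA
  intro p hp P
  have hUI : UI p ↥P := by
    apply ui_of_fpf' V hV P.isPGroup' (A.subtype.comp (P : Subgroup ↥A).subtype)
    · intro s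
      exact hAV (s : ↥A).2
    · intro s hs x hx hc
      exact hfpf _ (s : ↥A).2 (fun h => hs (Subtype.ext (Subtype.ext h))) x hx hc
  exact isCyclic_of_comm P.isPGroup' hUI (fun x y => Subtype.ext (hA x y))

/-- A group of order `p * q` with `p < q` acting fixed-point-freely on a nontrivial commutative
subgroup is cyclic. -/
theorem isCyclic_of_fpf_card {G : Type*} [Group G] [Finite G] (A V : Subgroup G)
    (hVab : ∀ x ∈ V, ∀ y ∈ V, x * y = y * x) (hV : V ≠ ⊥) (hAV : A ≤ normalizer (V : Set G))
    (hfpf : ∀ a ∈ A, a ≠ 1 → ∀ x ∈ V, a * x = x * a → x = 1) {p q : ℕ} (hp : p.Prime)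
    (hq : q.Prime) (hpq : p < q) (hcard : Nat.card A = p * q) : IsCyclic ↥A := by
  by_contra hnc
  have : Fact q.Prime := ⟨hq⟩
  have hexp := pow_eq_one_of_card (fun x y : ↥V => Subtype.ext (hVab x x.2 y y.2))
    ((conjEnd V).comp (Subgroup.inclusion hAV)) (by
      intro a ha x hx
      have h3 := congrArg Subtype.val hx
      have h4 : (a : G) * (x : G) * (a : G)⁻¹ = (x : G) := h3
      have h5 : (x : G) = 1 := hfpf _ a.2 (fun h => ha (Subtype.ext h)) _ x.2 (by
        calc (a : G) * (x : G) = (a : G) * (x : G) * (a : G)⁻¹ * a := by group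
          _ = (x : G) * a := by rw [h4])
      exact Subtype.ext h5) hp hq hpq hcard hnc
  obtain ⟨y, hy⟩ := exists_prime_orderOf_dvd_card' (G := ↥A) q (hcard ▸ dvd_mul_left q p)
  have hy1 : y ≠ 1 := by
    rintro rfl
    rw [orderOf_one] at hy
    exact hq.ne_one hy.symm
  have hyq : (y : G) ^ q = 1 := by
    have : y ^ q = 1 := by rw [← hy, pow_orderOf_eq_one]
    exact_mod_cast congrArg Subtype.val this
  have hcop := coprime_card_of_fpf' V (hAV y.2) hyq
    (fun x hx hc => hfpf _ y.2 (fun h => hy1 (Subtype.ext h)) x hx hc)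
  obtain ⟨w, hw1⟩ := (Subgroup.ne_bot_iff_exists_ne_one).1 hV
  have how : orderOf (w : ↥V) = q := orderOf_eq_prime (hexp w) hw1
  have hdvd : q ∣ Nat.card V := how ▸ orderOf_dvd_natCard w
  exact hq.one_lt.ne' (Nat.Coprime.eq_one_of_dvd hcop.symm hdvd)

/-- A group acting fixed-point-freely on a nontrivial commutative subgroup is cyclic if it is
commutative or of order a product of two primes. -/
theorem isCyclic_of_fpf {G : Type*} [Group G] [Finite G] (A V : Subgroup G)
    (hVab : ∀ x ∈ V, ∀ y ∈ V, x * y = y * x) (hV : V ≠ ⊥) (hAV : A ≤ normalizer (V : Set G))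
    (hfpf : ∀ a ∈ A, a ≠ 1 → ∀ x ∈ V, a * x = x * a → x = 1)
    (hA : (∀ a b : ↥A, a * b = b * a) ∨ ∃ p q : ℕ, p.Prime ∧ q.Prime ∧ Nat.card A = p * q) :
    IsCyclic ↥A := by
  rcases hA with hA | ⟨p, q, hp, hq, hcard⟩
  · exact isCyclic_of_fpf_comm A V hV hAV hfpf hA
  · rcases lt_trichotomy p q with hlt | heq | hgt
    · exact isCyclic_of_fpf_card A V hVab hV hAV hfpf hp hq hlt hcard
    · subst heq
      have : Fact p.Prime := ⟨hp⟩
      have hc : IsMulCommutative ↥A :=
        IsPGroup.isMulCommutative_of_card_eq_prime_sq (by rw [hcard, pow_two])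
      exact isCyclic_of_fpf_comm A V hV hAV hfpf (fun a b => mul_comm' a b)
    · exact isCyclic_of_fpf_card A V hVab hV hAV hfpf hq hp hgt (by rw [hcard, mul_comm])

end Cfsg.Agent.Lib.Helper54.FpfCyclic
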