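import Mathlib
import Cfsg.Agent.Lib.Helper54.UniqueSubgroup
import Cfsg.Agent.Lib.Helper53.PGroupBasics

/-!
# `p`-groups of maximal class: basic bounds, and cyclic maximal subgroups for `p = 2`
-/

namespace Cfsg.Agent.Lib.Helper54.MaxClass

open Subgroup
open Cfsg.Agent.Lib.Helper54.UniqueSubgroup

universe u

theorem lcs_succ_eq_bot {G : Type u} [Group G] {j : ℕ}
    (h : (⊤ : Subgroup G).lowerCentralSeries j ≤ center G) :
    (⊤ : Subgroup G).lowerCentralSeries (j + 1) = ⊥ := by
  rw [Subgroup.lowerCentralSeries_succ, Subgroup.commutator_eq_bot_iff_le_centralizer,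
    Subgroup.coe_top, Subgroup.centralizer_univ]
  exact h

theorem lcs_one_eq_bot_of_comm {G : Type u} [Group G] (h : ∀ a b : G, a * b = b * a) :
    (⊤ : Subgroup G).lowerCentralSeries 1 = ⊥ := by
  apply lcs_succ_eq_bot
  intro x _
  rw [Subgroup.mem_center_iff]
  intro g; exact h g x

/-- If the `k`-th term of the lower central series of `G ⧸ N` vanishes, for `N` central, then
the `(k+1)`-th term of that of `G` vanishes. -/
theorem lcs_succ_eq_bot_of_quotient {G : Type u} [Group G] (N : Subgroup G) [N.Normal]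
    (hN : N ≤ center G) {k : ℕ} (h : (⊤ : Subgroup (G ⧸ N)).lowerCentralSeries k = ⊥) :
    (⊤ : Subgroup G).lowerCentralSeries (k + 1) = ⊥ := by
  apply lcs_succ_eq_bot
  have h1 := Subgroup.map_lowerCentralSeries (⊤ : Subgroup G) (QuotientGroup.mk' N) k
  rw [Subgroup.map_top_of_surjective _ (QuotientGroup.mk'_surjective N), h,
    Subgroup.map_eq_bot_iff, QuotientGroup.ker_mk'] at h1
  exact h1.trans hN

theorem card_quotient_center {p : ℕ} [hp : Fact p.Prime] {G : Type u} [Group G] [Finite G]
    {k i : ℕ} (hcard : Nat.card G = p ^ k) (hi : Nat.card (center G) = p ^ i) :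
    i ≤ k ∧ Nat.card (G ⧸ center G) = p ^ (k - i) := by
  have h1 := (center G).card_mul_index
  rw [hi, hcard, Subgroup.index_eq_card] at h1
  have hik : i ≤ k := (Nat.pow_dvd_pow_iff_le_right hp.out.one_lt).1 ⟨_, h1.symm⟩
  refine ⟨hik, ?_⟩
  have h2 : p ^ k = p ^ i * p ^ (k - i) := by rw [← pow_add]; congr 1; omega
  rw [h2] at h1
  exact Nat.eq_of_mul_eq_mul_left (pow_pos hp.out.pos i) h1

theorem lcs_core {p : ℕ} [hp : Fact p.Prime] {G : Type u} [Group G] [Finite G] {k i : ℕ}
    (hcard : Nat.card G = p ^ k) (hi : Nat.card (center G) = p ^ i)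
    (ih : ∀ m < k, ∀ (H : Type u) [Group H] [Finite H], Nat.card H = p ^ m → 2 ≤ m →
      (⊤ : Subgroup H).lowerCentralSeries (m - 1) = ⊥) (hi0 : 0 < i) :
    (⊤ : Subgroup G).lowerCentralSeries (max 1 (k - i)) = ⊥ := by
  obtain ⟨hik, hquot⟩ := card_quotient_center hcard hi
  by_cases hki : 2 ≤ k - i
  · have h1 := ih (k - i) (by omega) (G ⧸ center G) hquot hki
    have h2 := lcs_succ_eq_bot_of_quotient (center G) le_rfl h1
    have h3 : max 1 (k - i) = k - i - 1 + 1 := by omega
    rw [h3]; exact h2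
  · have hcyc : IsCyclic (G ⧸ center G) := by
      have hle : k - i = 0 ∨ k - i = 1 := by omega
      rcases hle with h | h
      · rw [h, pow_zero] at hquot
        have : Subsingleton (G ⧸ center G) := (Nat.card_eq_one_iff_unique.1 hquot).1
        exact isCyclic_of_subsingleton
      · rw [h, pow_one] at hquot
        exact isCyclic_of_prime_card hquot
    have hcomm : IsMulCommutative G :=
      MonoidHom.isMulCommutative_of_isCyclic_of_ker_le_center (QuotientGroup.mk' (center G))
        (by rw [QuotientGroup.ker_mk'])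
    have h3 : max 1 (k - i) = 1 := by omega
    rw [h3]
    exact lcs_one_eq_bot_of_comm (fun a b => mul_comm' a b)

/-- A group of order `p ^ k`, `k ≥ 2`, has nilpotency class at most `k - 1`. -/
theorem lcs_eq_bot_of_card {p : ℕ} [hp : Fact p.Prime] : ∀ (k : ℕ) (G : Type u) [Group G]
    [Finite G], Nat.card G = p ^ k → 2 ≤ k → (⊤ : Subgroup G).lowerCentralSeries (k - 1) = ⊥ := by
  intro k
  induction k using Nat.strong_induction_on with
  | _ k ih =>
  intro G _ _ hcard hk
  obtain ⟨i, hi0, hi⟩ := IsPGroup.card_center_eq_prime_pow hcard (by omega)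
  have h1 := lcs_core hcard hi ih hi0
  exact le_bot_iff.1 (h1 ▸ Subgroup.lowerCentralSeries_antitone ⊤ (by omega : max 1 (k - i) ≤ k - 1))

/-- A group of order `p ^ n` and class `n - 1` (`n ≥ 3`) has centre of order `p`. -/
theorem card_center_of_lcs_ne_bot {p : ℕ} [hp : Fact p.Prime] {G : Type u} [Group G] [Finite G]
    {n : ℕ} (hcard : Nat.card G = p ^ n) (hn : 3 ≤ n)
    (h : (⊤ : Subgroup G).lowerCentralSeries (n - 2) ≠ ⊥) : Nat.card (center G) = p := by
  obtain ⟨i, hi0, hi⟩ := IsPGroup.card_center_eq_prime_pow hcard (by omega)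
  have h1 := lcs_core hcard hi (fun m _ H _ _ hH hm => lcs_eq_bot_of_card m H hH hm) hi0
  by_cases hi1 : i = 1
  · rw [hi, hi1, pow_one]
  · exfalso
    apply h
    obtain ⟨hik, -⟩ := card_quotient_center hcard hi
    exact le_bot_iff.1 (h1 ▸ Subgroup.lowerCentralSeries_antitone ⊤ (by omega : max 1 (n - i) ≤ n - 2))

theorem sq_eq_one_of_mem_center {G : Type u} [Group G] [Finite G]
    (hZ : Nat.card (center G) = 2) {c : G} (hc : c ∈ center G) : c ^ 2 = 1 := by
  have h1 : (⟨c, hc⟩ : center G) ^ Nat.card (center G) = 1 := pow_card_eq_one'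
  rw [hZ] at h1
  exact congrArg Subtype.val h1

/-- A `2`-group of maximal class (order `2 ^ (m + 3)`, class `m + 2`) has a cyclic subgroup of
index `2`. -/
theorem exists_orderOf_of_lcs_ne_bot : ∀ (m : ℕ) (G : Type u) [Group G] [Finite G],
    Nat.card G = 2 ^ (m + 3) → (⊤ : Subgroup G).lowerCentralSeries (m + 1) ≠ ⊥ →
    ∃ a : G, orderOf a = 2 ^ (m + 2) := by
  intro m
  induction m with
  | zero =>
    intro G _ _ hcard hlcs
    have : Fact (Nat.Prime 2) := ⟨Nat.prime_two⟩
    have hG : IsPGroup 2 G := IsPGroup.of_card hcard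
    by_contra hno
    push Not at hno
    have hsq : ∀ g : G, g ^ 2 = 1 := by
      intro g
      obtain ⟨k, hk⟩ := orderOf_eq_pow hG g
      have hk3 : k ≤ 3 := by
        have h1 := orderOf_dvd_natCard g
        rw [hcard, hk] at h1
        exact (Nat.pow_dvd_pow_iff_le_right (by norm_num)).1 h1
      interval_cases k
      · rw [pow_zero, orderOf_eq_one_iff] at hk; rw [hk, one_pow]
      · rw [← pow_orderOf_eq_one g, hk, pow_one]
      · exact absurd hk (hno g)
      · exfalso
        apply hno (g ^ 2)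
        rw [orderOf_pow' g (by norm_num), hk]; norm_num
    apply hlcs
    apply lcs_one_eq_bot_of_comm
    intro a b
    have h1 : a * b * (a * b) = 1 := by rw [← pow_two]; exact hsq (a * b)
    have ha : a * a = 1 := by rw [← pow_two]; exact hsq a
    have hb : b * b = 1 := by rw [← pow_two]; exact hsq b
    calc a * b = a * (a * b * (a * b)) * b := by rw [h1, mul_one]
      _ = (a * a) * (b * a) * (b * b) := by group
      _ = b * a := by rw [ha, hb, one_mul, mul_one]
  | succ m ih =>
    intro G _ _ hcard hlcs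
    have : Fact (Nat.Prime 2) := ⟨Nat.prime_two⟩
    have hG : IsPGroup 2 G := IsPGroup.of_card hcard
    have hZcard : Nat.card (center G) = 2 :=
      card_center_of_lcs_ne_bot (n := m + 1 + 3) hcard (by omega) hlcs
    have hquot : Nat.card (G ⧸ center G) = 2 ^ (m + 3) :=
      (card_quotient_center (i := 1) hcard (by rw [hZcard, pow_one])).2
    have hlcs' : (⊤ : Subgroup (G ⧸ center G)).lowerCentralSeries (m + 1) ≠ ⊥ :=
      fun h => hlcs (lcs_succ_eq_bot_of_quotient (center G) le_rfl h)
    obtain ⟨abar, habar⟩ := ih (G ⧸ center G) hquot hlcs'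
    obtain ⟨a, rfl⟩ := QuotientGroup.mk_surjective abar
    obtain ⟨k, hk⟩ := orderOf_eq_pow hG a
    have h1 : m + 2 ≤ k := by
      have := orderOf_map_dvd (QuotientGroup.mk' (center G)) a
      rw [hk] at this
      erw [habar] at this
      exact (Nat.pow_dvd_pow_iff_le_right (by norm_num)).1 this
    have h2 : a ^ 2 ^ (m + 2) ∈ center G := by
      rw [← QuotientGroup.eq_one_iff, QuotientGroup.mk_pow, ← habar, pow_orderOf_eq_one]
    have h3 : a ^ 2 ^ (m + 3) = 1 := by
      have := sq_eq_one_of_mem_center hZcard h2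
      rw [← pow_mul, ← pow_succ] at this
      exact this
    have h4 : k ≤ m + 3 := by
      have := orderOf_dvd_of_pow_eq_one h3
      rw [hk] at this
      exact (Nat.pow_dvd_pow_iff_le_right (by norm_num)).1 this
    by_cases hk3 : k = m + 3
    · exact ⟨a, by rw [hk, hk3]⟩
    exfalso
    have hk2 : k = m + 2 := by omega
    subst hk2
    set u : G := a ^ 2 ^ (m + 1) with hu
    have hu1 : u ≠ 1 := by
      apply pow_ne_one_of_lt_orderOf (by positivity)
      rw [hk]; exact Nat.pow_lt_pow_right (by norm_num) (by omega)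
    have hu2 : u ^ 2 = 1 := by rw [hu, ← pow_mul, ← pow_succ, ← hk, pow_orderOf_eq_one]
    have hunc : u ∉ center G := by
      intro hc
      rw [← QuotientGroup.eq_one_iff, hu, QuotientGroup.mk_pow] at hc
      have := orderOf_dvd_of_pow_eq_one hc
      rw [habar] at this
      have := (Nat.pow_dvd_pow_iff_le_right (by norm_num)).1 this
      omega
    apply hunc
    rw [Subgroup.mem_center_iff]
    intro g
    have hidx : (zpowers (QuotientGroup.mk a : G ⧸ center G)).index = 2 := by
      have := (zpowers (QuotientGroup.mk a : G ⧸ center G)).card_mul_index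
      rw [Nat.card_zpowers, habar, hquot, pow_succ 2 (m + 2)] at this
      exact Nat.eq_of_mul_eq_mul_left (by positivity) this
    have hnorm := Subgroup.normal_of_index_eq_two hidx
    obtain ⟨i, hi⟩ := mem_zpowers_iff.1
      (hnorm.conj_mem _ (mem_zpowers _) (QuotientGroup.mk g : G ⧸ center G))
    have hε : g * a * g⁻¹ * (a ^ i)⁻¹ ∈ center G := by
      rw [← QuotientGroup.eq_one_iff]
      rw [QuotientGroup.mk_mul, QuotientGroup.mk_mul, QuotientGroup.mk_mul, QuotientGroup.mk_inv,
        QuotientGroup.mk_inv, QuotientGroup.mk_zpow, ← hi, mul_inv_cancel]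
    set ε : G := g * a * g⁻¹ * (a ^ i)⁻¹ with hεdef
    have hga : g * a * g⁻¹ = ε * a ^ i := by rw [hεdef]; group
    have hεc : Commute ε (a ^ i) := (Subgroup.mem_center_iff.1 hε (a ^ i)).symm
    have hε2 : ε ^ 2 ^ (m + 1) = 1 := by
      rw [pow_succ', pow_mul, sq_eq_one_of_mem_center hZcard hε, one_pow]
    have hgu : g * u * g⁻¹ = u ^ i := by
      rw [hu, ← conj_pow, hga, hεc.mul_pow, hε2, one_mul, ← zpow_natCast, ← zpow_mul, mul_comm,
        zpow_mul, zpow_natCast]
    have hui : u ^ i = 1 ∨ u ^ i = u := by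
      rcases Int.emod_two_eq_zero_or_one i with h | h
      · left
        obtain ⟨j, hj⟩ : ∃ j, i = 2 * j := ⟨i / 2, by omega⟩
        rw [hj, zpow_mul, zpow_ofNat, hu2, one_zpow]
      · right
        obtain ⟨j, hj⟩ : ∃ j, i = 2 * j + 1 := ⟨i / 2, by omega⟩
        rw [hj, zpow_add, zpow_mul, zpow_ofNat, hu2, one_zpow, one_mul, zpow_one]
    rcases hui with h | h
    · exfalso
      rw [h] at hgu
      apply hu1
      have : u = g⁻¹ * (g * u * g⁻¹) * g := by group
      rw [this, hgu]; group
    · rw [h] at hgu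
      calc g * u = g * u * g⁻¹ * g := by group
        _ = u * g := by rw [hgu]

end Cfsg.Agent.Lib.Helper54.MaxClass
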