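import Mathlib
import Cfsg.Agent.Lib.Helper24.Coprime

/-!
Coprime action on `2`-groups: an element of odd order centralizing all elements of order
dividing `4` of a `2`-group which it normalizes centralizes the group; and elements of order
prime to `p` centralize the intersection of a normalized `p`-group with the hypercentre.
-/

set_option autoImplicit false
open scoped commutatorElement

namespace Cfsg.Agent.Lib.Helper54.OmegaTwo

open Cfsg.Agent.Lib.Helper24.Coprime

variable {G : Type*} [Group G]

/-- An element of odd order normalizing a `2`-subgroup `Q` and commuting with all elements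
`x ∈ Q` with `x ^ 4 = 1` centralizes `Q`. -/
theorem centralizes_of_centralizes_omega_two [Finite G] (a : G)
    (ho : (orderOf a).Coprime 2) (Q : Subgroup G) (hQ : IsPGroup 2 Q)
    (haQ : a ∈ Subgroup.normalizer (Q : Set G))
    (hC : ∀ x ∈ Q, x ^ 4 = 1 → x * a = a * x) : ∀ x ∈ Q, x * a = a * x := by
  have hF2 : Fact (Nat.Prime 2) := ⟨Nat.prime_two⟩
  induction hn : Nat.card Q using Nat.strong_induction_on generalizing Q with
  | _ n ih =>
    subst hn
    have hprop : ∀ K : Subgroup G, K ≤ Q → K ≠ Q → a ∈ Subgroup.normalizer (K : Set G) →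
        ∀ x ∈ K, x * a = a * x := by
      intro K hK hne haK
      exact ih _ (card_lt_of_le_of_ne hK hne) K (hQ.to_le hK) haK
        (fun x hx hxp => hC x (hK hx) hxp) rfl
    have hcopQ : (orderOf a).Coprime (Nat.card Q) := by
      obtain ⟨m, hm⟩ := hQ.exists_card_eq
      rw [hm]; exact Nat.Coprime.pow_right m ho
    have hA₁Q : Subgroup.zpowers a ≤ Subgroup.normalizer (Q : Set G) :=
      Subgroup.zpowers_le.mpr haQ
    have hQ₁le : ⁅Q, Subgroup.zpowers a⁆ ≤ Q := commutator_le_of_le_normalizer hA₁Q
    by_cases hQ₁ : ⁅Q, Subgroup.zpowers a⁆ = Q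
    · have hcentral : ∀ K : Subgroup G, K ≤ Q → K ≠ Q → a ∈ Subgroup.normalizer (K : Set G) →
          Q ≤ Subgroup.normalizer (K : Set G) → ∀ k ∈ K, ∀ x ∈ Q, k * x = x * k := by
        intro K hK hne haK hQK k hk
        have hKa := hprop K hK hne haK
        have hle : ⁅Q, Subgroup.zpowers a⁆ ≤ Subgroup.centralizer ({k} : Set G) := by
          rw [Subgroup.commutator_le]
          intro x hx a' ha'
          refine Subgroup.mem_centralizer_iff.mpr ?_
          intro h hh
          rw [Set.mem_singleton_iff] at hh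
          subst hh
          apply commutator_commute_of_commute
          · exact (commute_zpowers (hKa h hk) ha').symm
          · have hmem : x⁻¹ * h * x ∈ K := (Subgroup.mem_normalizer_iff''.mp (hQK hx) h).mp hk
            exact (commute_zpowers (hKa _ hmem) ha').symm
        rw [hQ₁] at hle
        intro x hx
        exact Subgroup.mem_centralizer_iff.mp (hle hx) k rfl
      by_cases hbot : Q = ⊥
      · intro x hx
        rw [hbot, Subgroup.mem_bot] at hx
        subst hx; simp
      have hQQle : ⁅Q, Q⁆ ≤ Q := commutator_le_of_le_normalizer Subgroup.le_normalizer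
      have hQQne : ⁅Q, Q⁆ ≠ Q := fun h =>
        hbot (eq_bot_of_commutator_eq hQ.isNilpotent le_rfl le_rfl h)
      have hcomm_central := hcentral ⁅Q, Q⁆ hQQle hQQne (mem_normalizer_commutator haQ haQ)
        (fun g hg => mem_normalizer_commutator (Subgroup.le_normalizer hg)
          (Subgroup.le_normalizer hg))
      -- the subgroup generated by `p`-th powers
      have hK₂le : Subgroup.closure {y | ∃ x ∈ Q, x ^ 2 = y} ≤ Q := by
        rw [Subgroup.closure_le]
        rintro y ⟨x, hx, rfl⟩
        exact Q.pow_mem hx 2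
      have hK₂norm : ∀ g ∈ Subgroup.normalizer (Q : Set G),
          g ∈ Subgroup.normalizer ((Subgroup.closure {y | ∃ x ∈ Q, x ^ 2 = y} : Subgroup G) : Set G) := by
        intro g hg
        apply Subgroup.normalizer_le_normalizer_closure
        rw [Subgroup.mem_set_normalizer_iff]
        intro h
        constructor
        · rintro ⟨x, hx, rfl⟩
          exact ⟨g * x * g⁻¹, (Subgroup.mem_normalizer_iff.mp hg x).mp hx, by rw [conj_pow]⟩
        · rintro ⟨x, hx, hxe⟩
          refine ⟨g⁻¹ * x * g, (Subgroup.mem_normalizer_iff''.mp hg x).mp hx, ?_⟩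
          have : (g⁻¹ * x * g) ^ 2 = g⁻¹ * x ^ 2 * g := by
            have := conj_pow (a := g⁻¹) (b := x) (i := 2)
            rwa [inv_inv] at this
          rw [this, hxe]; group
      have hK₂ne : Subgroup.closure {y | ∃ x ∈ Q, x ^ 2 = y} ≠ Q := by
        obtain ⟨m, hm⟩ := hQ.exists_card_eq
        have hm0 : m ≠ 0 := by
          rintro rfl
          rw [pow_zero] at hm
          exact hbot (Subgroup.eq_bot_of_card_eq Q hm)
        obtain ⟨k, rfl⟩ := Nat.exists_eq_succ_of_ne_zero hm0
        obtain ⟨M, hM⟩ := Sylow.exists_subgroup_card_pow_prime (G := Q) 2 (n := k)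
          (by rw [hm]; exact pow_dvd_pow 2 (Nat.le_succ k))
        have hidx : M.index = 2 := by
          have h1 := M.card_mul_index
          rw [hM, hm, pow_succ] at h1
          exact Nat.eq_of_mul_eq_mul_left (pow_pos Nat.prime_two.pos k) h1
        have hMn : M.Normal := by
          apply Subgroup.normal_of_index_eq_minFac_card
          rw [hidx, hm, Nat.pow_minFac (Nat.succ_ne_zero k), Nat.Prime.minFac_eq Nat.prime_two]
        intro heq
        have hle0 : Subgroup.closure {y | ∃ x ∈ Q, x ^ 2 = y} ≤ M.map Q.subtype := by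
          rw [Subgroup.closure_le]
          rintro y ⟨x, hx, rfl⟩
          have := Subgroup.pow_index_mem M (⟨x, hx⟩ : Q)
          rw [hidx] at this
          exact ⟨_, this, rfl⟩
        have hle : Q ≤ M.map Q.subtype := by
          intro z hz
          apply hle0
          rw [heq]; exact hz
        have hcard : Nat.card (M.map Q.subtype) = 2 ^ k := by
          rw [Subgroup.card_map_of_injective Q.subtype_injective, hM]
        have h2 := Subgroup.card_le_of_le hle
        rw [hcard, hm] at h2
        have := Nat.pow_lt_pow_right Nat.prime_two.one_lt (Nat.lt_succ_self k)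
        omega
      have hK₂central := hcentral _ hK₂le hK₂ne (hK₂norm a haQ)
        (fun g hg => hK₂norm g (Subgroup.le_normalizer hg))
      have hK₂a := hprop _ hK₂le hK₂ne (hK₂norm a haQ)
      have hpow : ∀ x ∈ Q, ∀ y ∈ Q, (x * y) ^ 4 = x ^ 4 * y ^ 4 := by
        intro x hx y hy
        have hc : y⁻¹ * x⁻¹ * y * x ∈ ⁅Q, Q⁆ := by
          have := Subgroup.commutator_mem_commutator (Q.inv_mem hy) (Q.inv_mem hx)
          simpa [commutatorElement_def] using this
        have hcQ : y⁻¹ * x⁻¹ * y * x ∈ Q := hQQle hc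
        have h : y * x = x * y * (y⁻¹ * x⁻¹ * y * x) := by group
        have hcx := hcomm_central _ hc x hx
        have hcy := hcomm_central _ hc y hy
        have hx2 : x ^ 2 ∈ Subgroup.closure {y | ∃ x ∈ Q, x ^ 2 = y} :=
          Subgroup.subset_closure ⟨x, hx, rfl⟩
        have hy2 : y ^ 2 ∈ Subgroup.closure {y | ∃ x ∈ Q, x ^ 2 = y} :=
          Subgroup.subset_closure ⟨y, hy, rfl⟩
        have h1 := pow_mul_comm_of_central h hcy 2
        rw [hK₂central _ hy2 x hx] at h1
        have hc2 : (y⁻¹ * x⁻¹ * y * x) ^ 2 = 1 := by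
          have : x * y ^ 2 * 1 = x * y ^ 2 * (y⁻¹ * x⁻¹ * y * x) ^ 2 := by rw [mul_one]; exact h1
          exact (mul_left_cancel this).symm
        have h2 := mul_pow_of_central h hcx hcy 2
        have hch : Nat.choose 2 2 = 1 := by decide
        rw [hch, pow_one] at h2
        have hAB : Commute (x ^ 2) (y ^ 2) := hK₂central _ hx2 _ (Q.pow_mem hy 2)
        have hABc : Commute (x ^ 2 * y ^ 2) (y⁻¹ * x⁻¹ * y * x) :=
          (hK₂central _ (Subgroup.mul_mem _ hx2 hy2) _ hcQ)
        calc (x * y) ^ 4 = ((x * y) ^ 2) ^ 2 := by rw [← pow_mul]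
          _ = (x ^ 2 * y ^ 2 * (y⁻¹ * x⁻¹ * y * x)) ^ 2 := by rw [h2]
          _ = (x ^ 2) ^ 2 * (y ^ 2) ^ 2 * (y⁻¹ * x⁻¹ * y * x) ^ 2 := by
              rw [hABc.mul_pow, hAB.mul_pow]
          _ = x ^ 4 * y ^ 4 := by rw [hc2, mul_one, ← pow_mul, ← pow_mul]
      intro x hx
      apply commute_of_commutator_commute haQ hcopQ hx
      apply hC _ (commutator_mem_of_mem_normalizer hx haQ)
      have hy : a * x⁻¹ * a⁻¹ ∈ Q := (Subgroup.mem_normalizer_iff.mp haQ x⁻¹).mp (Q.inv_mem hx)
      have hxa : x ^ 4 * a = a * x ^ 4 := by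
        have h4 : x ^ 4 = (x ^ 2) ^ 2 := by rw [← pow_mul]
        rw [h4]
        have hx2 : x ^ 2 ∈ Subgroup.closure {y | ∃ x ∈ Q, x ^ 2 = y} :=
          Subgroup.subset_closure ⟨x, hx, rfl⟩
        exact hK₂a _ (Subgroup.pow_mem _ hx2 2)
      have e : ⁅x, a⁆ = x * (a * x⁻¹ * a⁻¹) := by
        simp [commutatorElement_def, mul_assoc]
      rw [e, hpow x hx _ hy, conj_pow, inv_pow, ← mul_assoc, ← mul_assoc, hxa]
      group
    · have hcent := hprop _ hQ₁le hQ₁
        (mem_normalizer_commutator haQ (Subgroup.le_normalizer (Subgroup.mem_zpowers a)))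
      intro x hx
      apply commute_of_commutator_commute haQ hcopQ hx
      exact hcent _ (Subgroup.commutator_mem_commutator hx (Subgroup.mem_zpowers a))

/-- An element of order prime to `p` normalizing a `p`-subgroup `Q` centralizes the intersection
of `Q` with every term of the upper central series. -/
theorem commute_of_mem_upperCentralSeries [Finite G] (p : ℕ) [Fact p.Prime] (a : G)
    (ho : (orderOf a).Coprime p) (Q : Subgroup G) (hQ : IsPGroup p Q)
    (haQ : a ∈ Subgroup.normalizer (Q : Set G)) (n : ℕ) :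
    ∀ x ∈ Q, x ∈ Subgroup.upperCentralSeries G n → x * a = a * x := by
  have hcopQ : (orderOf a).Coprime (Nat.card Q) := by
    obtain ⟨m, hm⟩ := hQ.exists_card_eq
    rw [hm]; exact Nat.Coprime.pow_right m ho
  induction n with
  | zero =>
    intro x _ hx
    rw [Subgroup.upperCentralSeries_zero, Subgroup.mem_bot] at hx
    subst hx; simp
  | succ n ih =>
    intro x hx hxn
    apply commute_of_commutator_commute haQ hcopQ hx
    exact ih _ (commutator_mem_of_mem_normalizer hx haQ)
      (Subgroup.mem_upperCentralSeries_succ_iff.mp hxn a)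

/-- An element of order prime to `p` normalizing a `p`-subgroup `Q` and commuting with all
elements `x ∈ Q` with `x ^ p = 1` (or `x ^ 4 = 1` when `p = 2`) centralizes `Q`. -/
theorem centralizes_of_centralizes_omega' [Finite G] (p : ℕ) [Fact p.Prime] (a : G)
    (ho : (orderOf a).Coprime p) (Q : Subgroup G) (hQ : IsPGroup p Q)
    (haQ : a ∈ Subgroup.normalizer (Q : Set G))
    (hC : ∀ x ∈ Q, (x ^ p = 1 ∨ (p = 2 ∧ x ^ 4 = 1)) → x * a = a * x) :
    ∀ x ∈ Q, x * a = a * x := by
  by_cases hp : p = 2
  · subst hp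
    exact centralizes_of_centralizes_omega_two a ho Q hQ haQ
      (fun x hx hx4 => hC x hx (Or.inr ⟨rfl, hx4⟩))
  · exact centralizes_of_centralizes_omega p hp a ho Q hQ haQ
      (fun x hx hxp => hC x hx (Or.inl hxp))

end Cfsg.Agent.Lib.Helper54.OmegaTwo
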