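import Mathlib
import Cfsg.Prelude.Def_Transfer
import Cfsg.Prelude.Def_OddOrderLocal
import Cfsg.Prelude.Def_CaseTheorems
import Cfsg.Agent.Lib.Helper9.Narrow6
import Cfsg.Agent.S0100

set_option autoImplicit false
set_option linter.style.haveILetI false

/-
helper54: p-group lemmas for Bender–Glauberman Theorem 12.7 (statement S1419):
* `pow_centralizes`: a normal elementary abelian subgroup of order p^3 of a p-group (p odd) is
  centralized by all p-th powers;
* `transvection`: a p-element normalizing but not centralizing an elementary abelian group A of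
  order p^2 fixes exactly one line Z0 and is transitive on the other lines;
* `pow_line_rank3`, `pow_line_rank2`: the p-th powers of order p of the elements of C_S(A) lie in
  one subgroup of order at most p.
-/

namespace Cfsg.Agent.Lib.Helper54.BG127a

open Cfsg
open Cfsg.Agent.Lib.Helper9.Narrow1 Cfsg.Agent.Lib.Helper9.Narrow4 Cfsg.Agent.Lib.Helper9.Narrow6

/-- A normal elementary abelian subgroup of order `p ^ 3` of a finite `p`-group, `p` odd, is
centralized by all `p`-th powers. -/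
theorem pow_centralizes {R : Type*} [Group R] [Finite R] {p : ℕ} [Fact p.Prime] (hp2 : p ≠ 2)
    (hR : IsPGroup p R) (E : Subgroup R) [hEn : E.Normal] (hEc : IsMulCommutative E)
    (hEe : ∀ e ∈ E, e ^ p = 1) (hcard : Nat.card E = p ^ 3) (y : R) :
    ∀ e ∈ E, y ^ p * e = e * y ^ p := by
  have hp : p.Prime := Fact.out
  have hp1 : 1 < p := hp.one_lt
  have hbot : (⊥ : Subgroup R) < E := by
    rw [bot_lt_iff_ne_bot]
    intro h
    rw [h, Subgroup.card_bot] at hcard
    have : 1 < p ^ 3 := Nat.one_lt_pow (by norm_num) hp1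
    omega
  obtain ⟨N1, hN1n, -, hN1E, hN1c, hN1z⟩ := exists_step hR ⊥ E hbot
  haveI := hN1n
  rw [Subgroup.card_bot, mul_one] at hN1c
  have hN1lt : N1 < E := by
    refine lt_of_le_of_ne hN1E ?_
    intro h
    rw [h, hcard] at hN1c
    have : p ^ 3 = p ^ 1 := by rw [pow_one]; exact hN1c
    exact absurd (Nat.pow_right_injective hp.two_le this) (by norm_num)
  obtain ⟨N2, hN2n, hN12, hN2E, hN2c, hN2z⟩ := exists_step hR N1 E hN1lt
  haveI := hN2n
  rw [hN1c] at hN2c
  have hN2lt : N2 < E := by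
    refine lt_of_le_of_ne hN2E ?_
    intro h
    rw [h, hcard] at hN2c
    have : p ^ 3 = p ^ 2 := by rw [hN2c]; ring
    exact absurd (Nat.pow_right_injective hp.two_le this) (by norm_num)
  obtain ⟨N3, hN3n, hN23, hN3E, hN3c, hN3z⟩ := exists_step hR N2 E hN2lt
  rw [hN2c] at hN3c
  have hN3 : N3 = E := by
    apply Subgroup.eq_of_le_of_card_ge hN3E
    rw [hcard, hN3c]; apply le_of_eq; ring
  rw [hN3] at hN3z
  have c3 := comm_mem_of_map_le_center N2 E hN3z
  have c2 := comm_mem_of_map_le_center N1 N2 hN2z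
  have c1 := comm_mem_of_map_le_center ⊥ N1 hN1z
  intro e he
  have hcomm : ∀ a b : E, a * b = b * a := fun a b => hEc.is_comm.comm a b
  letI : CommGroup E := { (inferInstance : Group E) with mul_comm := hcomm }
  let φ : MulAut E := MulAut.conjNormal y
  let e0 : E := ⟨e, he⟩
  let e1 : E := φ e0 * e0⁻¹
  let e2 : E := φ e1 * e1⁻¹
  have hφc : ∀ a : E, ((φ a : E) : R) = y * a * y⁻¹ := fun a => MulAut.conjNormal_apply y a
  have h1 : (e1 : R) ∈ N2 := by
    have h' := N2.inv_mem (c3 e he y)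
    have e' : (e1 : R) = (e * y * e⁻¹ * y⁻¹)⁻¹ := by
      show ((φ e0 * e0⁻¹ : E) : R) = _
      rw [Subgroup.coe_mul, hφc, Subgroup.coe_inv]
      show y * e * y⁻¹ * e⁻¹ = _
      group
    rw [e']; exact h'
  have h2 : (e2 : R) ∈ N1 := by
    have h' := N1.inv_mem (c2 (e1 : R) h1 y)
    have e' : (e2 : R) = ((e1 : R) * y * (e1 : R)⁻¹ * y⁻¹)⁻¹ := by
      show ((φ e1 * e1⁻¹ : E) : R) = _
      rw [Subgroup.coe_mul, hφc, Subgroup.coe_inv]
      group
    rw [e']; exact h'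
  have h3 : φ e2 = e2 := by
    apply Subtype.ext
    rw [hφc]
    have h := c1 (e2 : R) h2 y
    rw [Subgroup.mem_bot] at h
    have h4 : (e2 : R) * y = y * e2 := by
      calc (e2 : R) * y = ((e2 : R) * y * (e2 : R)⁻¹ * y⁻¹) * (y * e2) := by group
        _ = y * e2 := by rw [h, one_mul]
    rw [← h4]; group
  have hφ0 : φ e0 = e1 * e0 := by simp [e1]
  have hφ1 : φ e1 = e2 * e1 := by simp [e2]
  have key : ∀ k : ℕ, (φ ^ k) e0 = e0 * e1 ^ k * e2 ^ (k.choose 2) := by
    intro k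
    induction k with
    | zero => simp
    | succ k ih =>
      have hc : (k + 1).choose 2 = k + k.choose 2 := by
        rw [Nat.choose_succ_succ' k 1]; simp
      rw [pow_succ', MulAut.mul_apply, ih, map_mul, map_mul, map_pow, map_pow, hφ0, hφ1, h3,
        mul_pow, hc, pow_add e2 k (k.choose 2), pow_succ e1 k]
      ac_rfl
  have hfin : (φ ^ p) e0 = e0 := by
    rw [key p]
    have he1 : e1 ^ p = 1 := by
      apply Subtype.ext
      simpa using hEe _ e1.2
    have he2' : e2 ^ p = 1 := by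
      apply Subtype.ext
      simpa using hEe _ e2.2
    have h2p : 2 < p := by
      have := hp.two_le
      omega
    obtain ⟨m, hm⟩ := hp.dvd_choose_self (by norm_num) h2p
    have he2 : e2 ^ (p.choose 2) = 1 := by rw [hm, pow_mul, he2', one_pow]
    rw [he1, he2]; simp
  have hφp : φ ^ p = MulAut.conjNormal (y ^ p) := by
    show (MulAut.conjNormal y : MulAut E) ^ p = _
    rw [map_pow]
  rw [hφp] at hfin
  have h4 : y ^ p * e * (y ^ p)⁻¹ = e := by
    have h5 : ((MulAut.conjNormal (y ^ p) e0 : E) : R) = (e0 : R) := congrArg Subtype.val hfin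
    rw [MulAut.conjNormal_apply] at h5
    exact h5
  calc y ^ p * e = (y ^ p * e * (y ^ p)⁻¹) * y ^ p := by group
    _ = e * y ^ p := by rw [h4]

/-- A `p`-element `t` normalizing but not centralizing an elementary abelian group `A` of order
`p ^ 2`: its fixed points on `A` form a subgroup `Z0` of order `p`, and `⟨t⟩` is transitive on the
other lines (in the form: for `x, y ∈ A \ Z0` some power of `x` is a `⟨t⟩`-conjugate of `y`). -/
theorem transvection {G : Type*} [Group G] [Finite G] {p : ℕ} [Fact p.Prime] (A : Subgroup G)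
    (hAe : Cfsg.IsElementaryAbelian p A) (hAc : Nat.card A = p ^ 2) (t : G)
    (ht : t ∈ Subgroup.normalizer (A : Set G)) (htp : IsPGroup p (Subgroup.zpowers t))
    (hnc : ∃ a ∈ A, t * a ≠ a * t) :
    ∃ Z0 : Subgroup G, Z0 ≤ A ∧ Nat.card Z0 = p ∧ (∀ z ∈ Z0, t * z = z * t) ∧
      (∀ a ∈ A, t * a = a * t → a ∈ Z0) ∧
      ∀ x ∈ A, x ∉ Z0 → ∀ y ∈ A, y ∉ Z0 → ∃ n m : ℕ, x ^ n = t ^ m * y * (t ^ m)⁻¹ := by
  have hp : p.Prime := Fact.out
  have hApg : IsPGroup p A := IsPGroup.of_card hAc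
  have hAcomm : ∀ a ∈ A, ∀ b ∈ A, a * b = b * a := fun a ha b hb =>
    congrArg (fun q : A => (q : G)) (hAe.1.is_comm.comm ⟨a, ha⟩ ⟨b, hb⟩)
  have htN : Subgroup.zpowers t ≤ Subgroup.normalizer (A : Set G) := by
    rw [Subgroup.zpowers_le]; exact ht
  set H : Subgroup G := Subgroup.zpowers t ⊔ A with hH
  have hHpg : IsPGroup p H := htp.to_sup_of_normal_right' hApg htN
  have hAH : A ≤ H := le_sup_right
  have htH : t ∈ H := Subgroup.mem_sup_left (Subgroup.mem_zpowers t)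
  have hHN : H ≤ Subgroup.normalizer (A : Set G) := sup_le htN Subgroup.le_normalizer
  haveI hn : (A.subgroupOf H).Normal := (Subgroup.normal_subgroupOf_iff_le_normalizer hAH).mpr hHN
  have hA'c : Nat.card (A.subgroupOf H) = p ^ 2 := by
    rw [← hAc]; exact Nat.card_congr (Subgroup.subgroupOfEquivOfLe hAH).toEquiv
  have hbot : (⊥ : Subgroup H) < A.subgroupOf H := by
    rw [bot_lt_iff_ne_bot]
    intro h
    rw [h, Subgroup.card_bot] at hA'c
    have : 1 < p ^ 2 := Nat.one_lt_pow (by norm_num) hp.one_lt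
    omega
  obtain ⟨N1, hN1n, -, hN1A, hN1c, hN1z⟩ := exists_step hHpg ⊥ (A.subgroupOf H) hbot
  haveI := hN1n
  rw [Subgroup.card_bot, mul_one] at hN1c
  have hN1lt : N1 < A.subgroupOf H := by
    refine lt_of_le_of_ne hN1A ?_
    intro h
    rw [h, hA'c] at hN1c
    have : p ^ 2 = p ^ 1 := by rw [pow_one]; exact hN1c
    exact absurd (Nat.pow_right_injective hp.two_le this) (by norm_num)
  obtain ⟨N2, hN2n, hN12, hN2A, hN2c, hN2z⟩ := exists_step hHpg N1 (A.subgroupOf H) hN1lt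
  have hN2 : N2 = A.subgroupOf H := by
    apply Subgroup.eq_of_le_of_card_ge hN2A
    rw [hA'c, hN2c, hN1c]; apply le_of_eq; ring
  rw [hN2] at hN2z
  have c2 := comm_mem_of_map_le_center N1 (A.subgroupOf H) hN2z
  have c1 := comm_mem_of_map_le_center ⊥ N1 hN1z
  set Z0 : Subgroup G := N1.map H.subtype with hZ0
  have hZ0A : Z0 ≤ A := by
    rintro _ ⟨z, hz, rfl⟩
    exact Subgroup.mem_subgroupOf.mp (hN1A hz)
  have hZ0c : Nat.card Z0 = p := by
    rw [hZ0, Subgroup.card_map_of_injective (Subgroup.subtype_injective H)]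
    exact hN1c
  have hZ0t : ∀ z ∈ Z0, t * z = z * t := by
    rintro _ ⟨z, hz, rfl⟩
    have h := c1 z hz ⟨t, htH⟩
    rw [Subgroup.mem_bot] at h
    have h2 : (z : G) * t * (z : G)⁻¹ * t⁻¹ = 1 := by
      have := congrArg (fun w : H => (w : G)) h
      simpa using this
    show t * (z : G) = (z : G) * t
    calc t * (z : G) = ((z : G) * t * (z : G)⁻¹ * t⁻¹)⁻¹ * ((z : G) * t) := by group
      _ = (z : G) * t := by rw [h2]; simp
  have hdelta : ∀ a ∈ A, ∀ r ∈ H, a * r * a⁻¹ * r⁻¹ ∈ Z0 := by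
    intro a ha r hr
    have h := c2 ⟨a, hAH ha⟩ (Subgroup.mem_subgroupOf.mpr ha) ⟨r, hr⟩
    exact ⟨_, h, by simp⟩
  have hcentmem : ∀ a : G, a ∈ Subgroup.centralizer ({t} : Set G) ↔ t * a = a * t := by
    intro a
    rw [Subgroup.mem_centralizer_iff]
    constructor
    · intro h; exact h t rfl
    · intro h x hx
      rw [Set.mem_singleton_iff] at hx
      rw [hx]; exact h
  have hCent : ∀ a ∈ A, t * a = a * t → a ∈ Z0 := by
    set C : Subgroup G := A ⊓ Subgroup.centralizer ({t} : Set G) with hC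
    have hZC : Z0 ≤ C := fun z hz => ⟨hZ0A hz, (hcentmem z).mpr (hZ0t z hz)⟩
    have hCA : C ≠ A := by
      intro h
      obtain ⟨a, ha, hne⟩ := hnc
      have h1 : a ∈ C := h ▸ ha
      exact hne ((hcentmem a).mp h1.2)
    have hCc : Nat.card C = p := by
      have hdvd : Nat.card C ∣ p ^ 2 := hAc ▸ Subgroup.card_dvd_of_le (inf_le_left : C ≤ A)
      obtain ⟨j, hj, hjc⟩ := (Nat.dvd_prime_pow hp).mp hdvd
      have hj1 : j ≠ 2 := by
        rintro rfl
        exact hCA (Subgroup.eq_of_le_of_card_ge inf_le_left (by rw [hAc, hjc]))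
      have hj0 : j ≠ 0 := by
        rintro rfl
        have h1 := Subgroup.card_le_of_le hZC
        rw [hZ0c, hjc, pow_zero] at h1
        have := hp.one_lt
        omega
      have hj' : j = 1 := by omega
      rw [hjc, hj', pow_one]
    have hZeq : Z0 = C := Subgroup.eq_of_le_of_card_ge hZC (by rw [hZ0c, hCc])
    intro a ha hta
    rw [hZeq]; exact ⟨ha, (hcentmem a).mpr hta⟩
  refine ⟨Z0, hZ0A, hZ0c, hZ0t, hCent, ?_⟩
  intro x hx hxZ y hy hyZ
  have hδ : ∀ a ∈ A, t * a * t⁻¹ * a⁻¹ ∈ Z0 := by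
    intro a ha
    have h1 := hdelta a ha t⁻¹ (H.inv_mem htH)
    have h2 := hZ0t _ h1
    have e1 : t * a * t⁻¹ * a⁻¹ = t * (a * t⁻¹ * a⁻¹ * t⁻¹⁻¹) * t⁻¹ := by group
    rw [e1, h2]
    simpa using h1
  have hzZ : t * x * t⁻¹ * x⁻¹ ∈ Z0 := hδ x hx
  have hwZ : t * y * t⁻¹ * y⁻¹ ∈ Z0 := hδ y hy
  have hne : ∀ a ∈ A, a ∉ Z0 → t * a * t⁻¹ * a⁻¹ ≠ 1 := by
    intro a ha haZ h
    apply haZ; apply hCent a ha
    calc t * a = (t * a * t⁻¹ * a⁻¹) * (a * t) := by group
      _ = a * t := by rw [h, one_mul]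
  have gen : ∀ u ∈ Z0, u ≠ 1 → ∀ v ∈ Z0, ∃ n : ℕ, v = u ^ n := by
    intro u hu hu1 v hv
    have h1 : (⟨v, hv⟩ : Z0) ∈ Submonoid.powers (⟨u, hu⟩ : Z0) :=
      mem_powers_of_prime_card hZ0c (by
        intro h; apply hu1; exact congrArg (fun q : Z0 => (q : G)) h)
    obtain ⟨n, hn⟩ := h1
    exact ⟨n, (congrArg (fun q : Z0 => (q : G)) hn).symm⟩
  obtain ⟨n, hn⟩ := gen _ hzZ (hne x hx hxZ) _ hwZ
  generalize hz : t * x * t⁻¹ * x⁻¹ = z at hzZ hn
  generalize hw : t * y * t⁻¹ * y⁻¹ = w at hwZ hn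
  have hw1 : w ≠ 1 := hw ▸ hne y hy hyZ
  have hcx : t * x * t⁻¹ = z * x := by rw [← hz]; group
  have hcy : t * y * t⁻¹ = w * y := by rw [← hw]; group
  have hzx : Commute z x := hAcomm z (hZ0A hzZ) x hx
  have hcxn : t * x ^ n * t⁻¹ = z ^ n * x ^ n := by
    rw [← conj_pow, hcx, hzx.mul_pow]
  have hcA : y⁻¹ * x ^ n ∈ A := A.mul_mem (A.inv_mem hy) (A.pow_mem hx n)
  have hct : t * (y⁻¹ * x ^ n) = (y⁻¹ * x ^ n) * t := by
    have h1 : t * (y⁻¹ * x ^ n) * t⁻¹ = y⁻¹ * x ^ n := by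
      calc t * (y⁻¹ * x ^ n) * t⁻¹ = (t * y * t⁻¹)⁻¹ * (t * x ^ n * t⁻¹) := by group
        _ = (w * y)⁻¹ * (z ^ n * x ^ n) := by rw [hcy, hcxn]
        _ = y⁻¹ * x ^ n := by rw [← hn]; group
    calc t * (y⁻¹ * x ^ n) = (t * (y⁻¹ * x ^ n) * t⁻¹) * t := by group
      _ = (y⁻¹ * x ^ n) * t := by rw [h1]
  have hcZ : y⁻¹ * x ^ n ∈ Z0 := hCent _ hcA hct
  obtain ⟨m, hm⟩ := gen w hwZ hw1 _ hcZ
  have hwt : Commute t w := hZ0t w hwZ
  have hpow : ∀ k : ℕ, t ^ k * y * (t ^ k)⁻¹ = w ^ k * y := by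
    intro k
    induction k with
    | zero => simp
    | succ k ih =>
      have h5 : t * w ^ k * t⁻¹ = w ^ k := by
        have := (hwt.pow_right k).eq
        calc t * w ^ k * t⁻¹ = (t * w ^ k) * t⁻¹ := by group
          _ = (w ^ k * t) * t⁻¹ := by rw [this]
          _ = w ^ k := by group
      calc t ^ (k + 1) * y * (t ^ (k + 1))⁻¹ = t * (t ^ k * y * (t ^ k)⁻¹) * t⁻¹ := by
            rw [pow_succ']; group
        _ = t * (w ^ k * y) * t⁻¹ := by rw [ih]
        _ = (t * w ^ k * t⁻¹) * (t * y * t⁻¹) := by group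
        _ = w ^ k * (w * y) := by rw [h5, hcy]
        _ = w ^ (k + 1) * y := by rw [pow_succ]; group
  refine ⟨n, m, ?_⟩
  rw [hpow m, ← hm]
  have h6 : Commute (x ^ n) y := hAcomm _ (A.pow_mem hx n) y hy
  calc x ^ n = y⁻¹ * (y * x ^ n) := by group
    _ = y⁻¹ * (x ^ n * y) := by rw [h6.eq]
    _ = y⁻¹ * x ^ n * y := by group

end Cfsg.Agent.Lib.Helper54.BG127a
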