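import Mathlib
import Cfsg.Agent.Lib.Helper54.BG127a
import Cfsg.Agent.Lib.Helper31.CoprimeGen

set_option autoImplicit false
set_option linter.style.haveILetI false

/-
helper54: the core of Bender–Glauberman Theorem 12.7 (S1419), parts (b1) and (c), in abstract
form: `K` a `p'`-group normalized by the elementary abelian group `A` of order `p^2`,
`C_K(A) = 1`, `K ≠ 1`; every `x ∈ A#` with `C_K(x) ≠ 1` has `C_G(x) ≤ M` and `C_G(x) ≤ M^g` only
for `g ∈ M`; `t` a `p`-element of `N_G(A)` not centralizing `A`, whose powers lying in `M`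
centralize `A`. Then exactly one line `⟨x0⟩` of `A` centralizes `K`, the other elements `x` of `A#`
have `C_K(x) = 1` and `C_G(x) ⊄ M`.
-/

namespace Cfsg.Agent.Lib.Helper54.BG127c

open Cfsg
open Cfsg.Agent.Lib.Helper54.BG127a

variable {G : Type*} [Group G]

/-- Centralizers of powers. -/
theorem centralizer_le_pow (x : G) (n : ℕ) :
    Subgroup.centralizer ({x} : Set G) ≤ Subgroup.centralizer ({x ^ n} : Set G) := by
  intro c hc
  rw [Subgroup.mem_centralizer_iff] at hc ⊢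
  intro h hh
  rw [Set.mem_singleton_iff] at hh
  rw [hh]
  exact (Commute.pow_left (show Commute x c from hc x rfl) n).eq

theorem mem_centralizer_singleton {x c : G} :
    c ∈ Subgroup.centralizer ({x} : Set G) ↔ x * c = c * x := by
  rw [Subgroup.mem_centralizer_iff]
  constructor
  · intro h; exact h x rfl
  · intro h y hy
    rw [Set.mem_singleton_iff] at hy
    rw [hy]; exact h

/-- The centralizer of a conjugate. -/
theorem conj_mem_centralizer {x c : G} (g : G) (hc : c ∈ Subgroup.centralizer ({x} : Set G)) :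
    g * c * g⁻¹ ∈ Subgroup.centralizer ({g * x * g⁻¹} : Set G) := by
  rw [mem_centralizer_singleton] at hc ⊢
  calc g * x * g⁻¹ * (g * c * g⁻¹) = g * (x * c) * g⁻¹ := by group
    _ = g * (c * x) * g⁻¹ := by rw [hc]
    _ = g * c * g⁻¹ * (g * x * g⁻¹) := by group

/-- In a group element of prime order, a nontrivial power generates the same subgroup. -/
theorem exists_pow_back {p : ℕ} (hp : p.Prime) {x : G} (hx : x ^ p = 1) {n : ℕ}
    (hn : x ^ n ≠ 1) : ∃ m : ℕ, (x ^ n) ^ m = x := by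
  have hpn : ¬ p ∣ n := by
    rintro ⟨k, rfl⟩
    apply hn
    rw [pow_mul, hx, one_pow]
  have hcop : Nat.Coprime n p := (Nat.Coprime.symm ((Nat.Prime.coprime_iff_not_dvd hp).mpr hpn))
  obtain ⟨m, -, hm⟩ := Nat.exists_mul_mod_eq_one_of_coprime hcop hp.one_lt
  refine ⟨m, ?_⟩
  rw [← pow_mul, pow_eq_pow_mod (n * m) hx, hm, pow_one]

variable [Finite G] {p : ℕ} [Fact p.Prime]

omit [Finite G] [Fact p.Prime] in
/-- Key step: conjugating a "bad" element by an element of `N_G(A)` outside `M` gives a "good" one. -/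
theorem key1 (M K A : Subgroup G)
    (h126 : ∀ x ∈ A, x ≠ 1 → K ⊓ Subgroup.centralizer ({x} : Set G) ≠ ⊥ →
      Subgroup.centralizer ({x} : Set G) ≤ M ∧
        ∀ g : G, Subgroup.centralizer ({x} : Set G) ≤ M.map (MulAut.conj g).toMonoidHom → g ∈ M)
    {x g : G} (hx : x ∈ A) (hx1 : x ≠ 1) (hbad : K ⊓ Subgroup.centralizer ({x} : Set G) ≠ ⊥)
    (hg : g ∈ Subgroup.normalizer (A : Set G)) (hgM : g ∉ M) :
    K ⊓ Subgroup.centralizer ({g * x * g⁻¹} : Set G) = ⊥ := by
  by_contra hcon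
  have hgx : g * x * g⁻¹ ∈ A := (Subgroup.mem_normalizer_iff.mp hg x).mp hx
  have hgx1 : g * x * g⁻¹ ≠ 1 := by
    intro h
    apply hx1
    calc x = g⁻¹ * (g * x * g⁻¹) * g := by group
      _ = 1 := by rw [h]; group
  have h1 := (h126 _ hgx hgx1 hcon).1
  have h2 : Subgroup.centralizer ({x} : Set G) ≤ M.map (MulAut.conj g⁻¹).toMonoidHom := by
    intro c hc
    refine ⟨g * c * g⁻¹, h1 (conj_mem_centralizer g hc), ?_⟩
    simp only [MulEquiv.coe_toMonoidHom, MulAut.conj_apply]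
    group
  have h3 := (h126 x hx hx1 hbad).2 g⁻¹ h2
  exact hgM (by simpa using M.inv_mem h3)

/-- The core of 12.7 (b1), (c). -/
theorem core (M K A : Subgroup G) (t : G)
    (hAe : Cfsg.IsElementaryAbelian p A) (hAc : Nat.card A = p ^ 2)
    (hKp : ¬ p ∣ Nat.card K) (hAK : A ≤ Subgroup.normalizer (K : Set G)) (hK1 : K ≠ ⊥)
    (h126 : ∀ x ∈ A, x ≠ 1 → K ⊓ Subgroup.centralizer ({x} : Set G) ≠ ⊥ →
      Subgroup.centralizer ({x} : Set G) ≤ M ∧
        ∀ g : G, Subgroup.centralizer ({x} : Set G) ≤ M.map (MulAut.conj g).toMonoidHom → g ∈ M)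
    (htA : t ∈ Subgroup.normalizer (A : Set G))
    (htM : ∀ k : ℕ, t ^ k ∈ M → ∀ a ∈ A, t ^ k * a = a * t ^ k)
    (htp : IsPGroup p (Subgroup.zpowers t)) (hnc : ∃ a ∈ A, t * a ≠ a * t) :
    ∃ x0 ∈ A, x0 ≠ 1 ∧ K ≤ Subgroup.centralizer ({x0} : Set G) ∧
      ∀ x ∈ A, x ≠ 1 → x ∉ Subgroup.zpowers x0 →
        K ⊓ Subgroup.centralizer ({x} : Set G) = ⊥ ∧ ¬ Subgroup.centralizer ({x} : Set G) ≤ M := by
  have hp : p.Prime := Fact.out
  have hApg : IsPGroup p A := IsPGroup.of_card hAc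
  have hAcomm : ∀ a ∈ A, ∀ b ∈ A, a * b = b * a := fun a ha b hb =>
    congrArg (fun q : A => (q : G)) (hAe.1.is_comm.comm ⟨a, ha⟩ ⟨b, hb⟩)
  have htnM : t ∉ M := by
    intro h
    obtain ⟨a, ha, hne⟩ := hnc
    have := htM 1 (by simpa using h) a ha
    simp only [pow_one] at this
    exact hne this
  obtain ⟨Z0, hZ0A, hZ0c, hZ0t, hCent, hF3⟩ := transvection A hAe hAc t htA htp hnc
  have htkN : ∀ k : ℕ, t ^ k ∈ Subgroup.normalizer (A : Set G) := fun k =>
    (Subgroup.normalizer (A : Set G)).pow_mem htA k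
  -- (γ1) elements of Z0 are good
  have hZ0good : ∀ x ∈ Z0, x ≠ 1 → K ⊓ Subgroup.centralizer ({x} : Set G) = ⊥ := by
    intro x hx hx1
    by_contra hbad
    have h1 := (h126 x (hZ0A hx) hx1 hbad).1
    exact htnM (h1 (mem_centralizer_singleton.mpr (hZ0t x hx).symm))
  -- bad elements outside Z0: the conjugating power of t lies in M
  have hbadconj : ∀ x ∈ A, x ≠ 1 → K ⊓ Subgroup.centralizer ({x} : Set G) ≠ ⊥ →
      ∀ y ∈ A, y ≠ 1 → K ⊓ Subgroup.centralizer ({y} : Set G) ≠ ⊥ → ∃ n : ℕ, x ^ n = y := by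
    intro x hx hx1 hxb y hy hy1 hyb
    have hxZ : x ∉ Z0 := fun h => hxb (hZ0good x h hx1)
    have hyZ : y ∉ Z0 := fun h => hyb (hZ0good y h hy1)
    obtain ⟨n, m, hnm⟩ := hF3 x hx hxZ y hy hyZ
    refine ⟨n, ?_⟩
    by_cases hM : t ^ m ∈ M
    · have h1 := htM m hM y hy
      rw [hnm, h1]; group
    · exfalso
      have h1 := key1 M K A h126 hy hy1 hyb (htkN m) hM
      rw [← hnm] at h1
      apply hxb
      rw [eq_bot_iff, ← h1]
      exact inf_le_inf_left _ (centralizer_le_pow x n)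
  -- generation
  obtain ⟨b, hb, hb1⟩ : ∃ b ∈ A, b ≠ 1 := by
    by_contra hcon
    push Not at hcon
    have hAbot : A = ⊥ := by
      rw [eq_bot_iff]; intro a ha; rw [Subgroup.mem_bot]; exact hcon a ha
    rw [hAbot, Subgroup.card_bot] at hAc
    have : 1 < p ^ 2 := Nat.one_lt_pow (by norm_num) hp.one_lt
    omega
  have hbp : b ^ p = 1 := hAe.2 b hb
  obtain ⟨a, ha, hab⟩ : ∃ a ∈ A, a ∉ Subgroup.zpowers b := by
    by_contra hcon
    push Not at hcon
    have hle : A ≤ Subgroup.zpowers b := hcon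
    have h1 := Subgroup.card_le_of_le hle
    rw [hAc, Nat.card_zpowers] at h1
    have h2 : orderOf b ≤ p := Nat.le_of_dvd hp.pos (orderOf_dvd_of_pow_eq_one hbp)
    have h3 : p < p ^ 2 := by
      calc p = p ^ 1 := (pow_one p).symm
        _ < p ^ 2 := Nat.pow_lt_pow_right hp.one_lt (by norm_num)
    omega
  have hap : a ^ p = 1 := hAe.2 a ha
  have hgen := Cfsg.Agent.Lib.Helper31.CoprimeGen.rank_two_generation A K hApg hKp hAK a b ha hb
    (hAcomm a ha b hb) hap hbp
  have habj : ∀ j : ℕ, a * b ^ j ≠ 1 := by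
    intro j h
    apply hab
    have : a = (b ^ j)⁻¹ := by
      calc a = (a * b ^ j) * (b ^ j)⁻¹ := by group
        _ = (b ^ j)⁻¹ := by rw [h, one_mul]
    rw [this]
    exact (Subgroup.zpowers b).inv_mem ((Subgroup.zpowers b).pow_mem (Subgroup.mem_zpowers b) j)
  -- a bad element exists
  obtain ⟨x0, hx0, hx01, hx0b⟩ : ∃ x0 ∈ A, x0 ≠ 1 ∧ K ⊓ Subgroup.centralizer ({x0} : Set G) ≠ ⊥ := by
    by_contra hcon
    push Not at hcon
    apply hK1
    rw [eq_bot_iff]
    refine hgen.trans (sup_le ?_ (iSup₂_le ?_))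
    · rw [hcon b hb hb1]
    · intro j _
      rw [hcon _ (A.mul_mem ha (A.pow_mem hb j)) (habj j)]
  refine ⟨x0, hx0, hx01, ?_, ?_⟩
  · -- K ≤ C(x0)
    refine hgen.trans (sup_le ?_ (iSup₂_le ?_))
    · by_cases hbb : K ⊓ Subgroup.centralizer ({b} : Set G) = ⊥
      · rw [hbb]; exact bot_le
      · obtain ⟨n, hn⟩ := hbadconj b hb hb1 hbb x0 hx0 hx01 hx0b
        rw [← hn]
        exact inf_le_right.trans (centralizer_le_pow b n)
    · intro j _
      by_cases hbb : K ⊓ Subgroup.centralizer ({a * b ^ j} : Set G) = ⊥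
      · rw [hbb]; exact bot_le
      · obtain ⟨n, hn⟩ := hbadconj _ (A.mul_mem ha (A.pow_mem hb j)) (habj j) hbb x0 hx0 hx01 hx0b
        rw [← hn]
        exact inf_le_right.trans (centralizer_le_pow _ n)
  · intro x hx hx1 hxx0
    have hxp : x ^ p = 1 := hAe.2 x hx
    have hgood : K ⊓ Subgroup.centralizer ({x} : Set G) = ⊥ := by
      by_contra hbad
      obtain ⟨n, hn⟩ := hbadconj x hx hx1 hbad x0 hx0 hx01 hx0b
      obtain ⟨m, hm⟩ := exists_pow_back hp hxp (by rw [hn]; exact hx01)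
      apply hxx0
      rw [← hm, hn]
      exact (Subgroup.zpowers x0).pow_mem (Subgroup.mem_zpowers x0) m
    refine ⟨hgood, ?_⟩
    intro hxM
    by_cases hxZ : x ∈ Z0
    · exact htnM (hxM (mem_centralizer_singleton.mpr (hZ0t x hxZ).symm))
    · have hx0Z : x0 ∉ Z0 := fun h => hx0b (hZ0good x0 h hx01)
      obtain ⟨n, m, hnm⟩ := hF3 x hx hxZ x0 hx0 hx0Z
      have hne1 : x ^ n ≠ 1 := by
        rw [hnm]
        intro h
        apply hx01
        calc x0 = (t ^ m)⁻¹ * (t ^ m * x0 * (t ^ m)⁻¹) * t ^ m := by group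
          _ = 1 := by rw [h]; group
      obtain ⟨m', hm'⟩ := exists_pow_back hp hxp hne1
      by_cases hM : t ^ m ∈ M
      · have h1 := htM m hM x0 hx0
        apply hxx0
        rw [← hm', hnm, h1]
        have : x0 * t ^ m * (t ^ m)⁻¹ = x0 := by group
        rw [this]
        exact (Subgroup.zpowers x0).pow_mem (Subgroup.mem_zpowers x0) m'
      · -- C(x0) ≤ M^(t^m)⁻¹, so t^m ∈ M
        have h2 : Subgroup.centralizer ({x0} : Set G) ≤
            M.map (MulAut.conj (t ^ m)⁻¹).toMonoidHom := by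
          intro c hc
          have h3 : t ^ m * c * (t ^ m)⁻¹ ∈ Subgroup.centralizer ({x ^ n} : Set G) := by
            rw [hnm]; exact conj_mem_centralizer _ hc
          have h4 : t ^ m * c * (t ^ m)⁻¹ ∈ Subgroup.centralizer ({x} : Set G) := by
            have := centralizer_le_pow (x ^ n) m' h3
            rwa [hm'] at this
          refine ⟨t ^ m * c * (t ^ m)⁻¹, hxM h4, ?_⟩
          simp only [MulEquiv.coe_toMonoidHom, MulAut.conj_apply]
          group
        have h5 := (h126 x0 hx0 hx01 hx0b).2 _ h2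
        exact hM (by simpa using M.inv_mem h5)

end Cfsg.Agent.Lib.Helper54.BG127c
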