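import Mathlib
import Cfsg.Agent.Lib.Helper54.S52Stmt
import Cfsg.Agent.Lib.Helper54.BG127e
import Cfsg.Agent.Lib.Helper63.S28FR
import Cfsg.Agent.Lib.Helper70.BG11Hb
import Cfsg.Agent.S1409

set_option autoImplicit false

/-!
helper54: piece FROB of S1352 (second seat): a fixed-point-free element `z ∈ E` of prime order
centralizes the normal subgroup `R0` of `E` of prime order `r` (else `FR` gives
`M_σ ≤ C(R0)`, so `M ≤ N(R0)`, against S1409).
-/

namespace Cfsg.Agent.Lib.Helper54.S52FROB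

universe u

theorem main : Cfsg.Agent.Lib.Helper54.S52Stmt.Frob.{u} := by
  intro G _ _ hG M E R0 r q z hM hE hr hrσ hrk hR0E hR0c hR0n hq hqσ hzE hzo hCz
  have : Fact r.Prime := ⟨hr⟩
  by_contra hcon
  push Not at hcon
  obtain ⟨u0, hu0, hu0z⟩ := hcon
  have hEM : E ≤ M := hE.1
  have hSn : M ≤ Subgroup.normalizer (Cfsg.sigmaCore M : Set G) :=
    Cfsg.Agent.Lib.Helper9.BG11b.sigmaCore_normal M
  have hMtop : M ≠ ⊤ := hM.1
  have hSM : Cfsg.sigmaCore M ≤ M := Cfsg.Agent.Lib.Helper9.BG11b.sigmaCore_le M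
  have hSsolv : Group.IsSolvable (Cfsg.sigmaCore M) :=
    Cfsg.Agent.Lib.Helper9.BG10a.isSolvable_of_ne_top hG
      (fun h => hMtop (top_le_iff.mp (h ▸ hSM)))
  have hRcard : (Nat.card (Subgroup.zpowers z)).Prime := by
    rw [Nat.card_zpowers, hzo]; exact hq
  have hu01 : u0 ≠ 1 := by
    rintro rfl
    exact hu0z (by simp)
  have hR0z : R0 = Subgroup.zpowers u0 :=
    Cfsg.Agent.Lib.Helper54.BG127e.eq_zpowers_of_card_prime hR0c hu0 hu01
  have hR0comm : ∀ x ∈ R0, ∀ y ∈ R0, x * y = y * x := by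
    intro x hx y hy
    rw [hR0z] at hx hy
    obtain ⟨i, rfl⟩ := Subgroup.mem_zpowers_iff.mp hx
    obtain ⟨j, rfl⟩ := Subgroup.mem_zpowers_iff.mp hy
    exact zpow_mul_comm u0 i j
  have hfix : ∀ y ∈ R0, (∀ x ∈ Subgroup.zpowers z, x * y = y * x) → y = 1 := by
    intro y hy hyz
    by_contra hy1
    have hR0y : R0 = Subgroup.zpowers y :=
      Cfsg.Agent.Lib.Helper54.BG127e.eq_zpowers_of_card_prime hR0c hy hy1
    rw [hR0y] at hu0
    obtain ⟨i, rfl⟩ := Subgroup.mem_zpowers_iff.mp hu0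
    have hc : Commute z y := hyz z (Subgroup.mem_zpowers z)
    exact hu0z (hc.zpow_right i).eq
  have hcop : (Nat.card (Cfsg.sigmaCore M)).Coprime
      (Nat.card R0 * Nat.card (Subgroup.zpowers z)) := by
    rw [hR0c, Nat.card_zpowers, hzo]
    exact Nat.Coprime.mul_right
      (Cfsg.Agent.Lib.Helper70.BG11Hb.coprime_card_sigmaCore hG hM hr hrσ).symm
      (Cfsg.Agent.Lib.Helper70.BG11Hb.coprime_card_sigmaCore hG hM hq hqσ).symm
  have hcent : ∀ n ∈ Cfsg.sigmaCore M, ∀ y ∈ R0, y * n = n * y := by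
    apply Cfsg.Agent.Lib.Helper63.S28FR.main (Cfsg.sigmaCore M) R0 (Subgroup.zpowers z) hSsolv
      hRcard hR0comm (by rw [Subgroup.zpowers_le]; exact hR0n hzE) hfix
      (hR0E.trans (hEM.trans hSn)) (by rw [Subgroup.zpowers_le]; exact hSn (hEM hzE)) hcop
    intro n hn hnz y hy
    have hn1 : n = 1 := hCz n hn (hnz z (Subgroup.mem_zpowers z))
    rw [hn1, mul_one, one_mul]
  have hMN : M ≤ Subgroup.normalizer (R0 : Set G) := by
    intro m hm
    obtain ⟨e, he, s, hs, rfl⟩ := hE.2.2.2 m hm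
    refine mul_mem (hR0n he) (Subgroup.centralizer_le_normalizer _ ?_)
    rw [Subgroup.mem_centralizer_iff]
    intro y hy
    exact hcent s hs y hy
  have hR0bot : R0 ≠ ⊥ := by
    intro h
    rw [h] at hR0c
    simp at hR0c
    exact hr.one_lt.ne hR0c
  have hR0top : R0 ≠ ⊤ := fun h => hMtop (top_le_iff.mp (h ▸ hR0E.trans hEM))
  have hNtop : Subgroup.normalizer (R0 : Set G) ≠ ⊤ :=
    Cfsg.Agent.Lib.Helper9.BG11b.normalizer_ne_top hG hR0bot hR0top
  have hNM : Subgroup.normalizer (R0 : Set G) ≤ M := by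
    rcases eq_or_lt_of_le hMN with h | h
    · exact h.symm.le
    · exact absurd (hM.2 _ h) hNtop
  exact (Cfsg.Agent.S1409.result hG M hM r hrσ R0 hR0c hNM).1.2 hrk

end Cfsg.Agent.Lib.Helper54.S52FROB
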