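import Mathlib
import Cfsg.Prelude.Def_OddOrderLocal

set_option autoImplicit false

/-!
# S1368 (BG 14.7(d) under the S1367 hypotheses): statements of the pieces

Setting (`Pair M K Ms Ks`, SYMMETRIC in `(M, K) ↔ (Ms, Ks)`): `M`, `Ms` maximal, `K` a Hall
`κ(M)`-subgroup of `M`, `Ks` a Hall `κ(Ms)`-subgroup of `Ms`, `Ks = C_{M_σ}(K)`,
`K = C_{Ms_σ}(Ks)`, both nontrivial.  (In S1368 moreover `K` is cyclic.)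

Goal: `M ∩ Ms = K Ks` (INT) and `K Ks` cyclic.  `Ks` cyclic: its Sylow subgroups are cyclic (ZG);
if `U ≠ 1` then `M_σ` is nilpotent (N0), so `Ks ≤ M_σ` is cyclic; if `U = 1` and `Ks` is not
abelian then also `Ms = Ms_σ Ks` (P1STAR) and a count gives a contradiction: the sets
`tilde(M_σ#)`, `tilde(Ms_σ#)` (S1377; disjoint: DISJT) and the conjugates of
`Zhat = K Ks ∖ (K ∪ Ks)` (TI + CARDZ; disjoint from both: DISJZ) have together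
`|G| + c - a - b > |G|` elements, `a = |G:M|`, `b = |G:Ms|`, `c = |G:K Ks| ≥ 2a, 2b`, `c` odd.

Landed tools: `Cfsg.Agent.Lib.Helper73.BG143Final.claimC` (ClaimC), `.kCyc`;
`Cfsg.Agent.Lib.Helper73.BG14Final.{gen, suppEq, disj}`,
`Cfsg.Agent.Lib.Helper79.BG14SUPPCONJ.main gen suppEq : SuppConj`,
`Cfsg.Agent.Lib.Helper62.BG14DISJ.parts_unique`, `Cfsg.Agent.S1378.result`, `S1404`, `S1354`,
`S1352`, `S1429`, `Cfsg.Agent.Lib.Helper9.BG11b.{mem_sigma_of_dvd, sigma_cj, sigmaCore_normal,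
le_sigmaCore_of_isPGroup}`, `Cfsg.Agent.Lib.Helper22.BG1210.coprime_card_sigmaCore`,
`Cfsg.Agent.Lib.Helper63.S53TAU1.{compl_N, commutator_le_N}`,
`Cfsg.Agent.Lib.Helper31.SigBasic.mem_sup_of_le_normalizer`,
`Cfsg.Agent.Lib.Helper23.BG1361.exists_compl_ge`, `Cfsg.Agent.Lib.Helper24.S52NORM.main`,
`Cfsg.Agent.Lib.Helper60.BG14SIGDEC.pRankLE_one_of_kappa`.
-/

namespace Cfsg.Agent.Lib.Helper54.S68Stmt

universe u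

/-- The symmetric pairing. -/
structure Pair {G : Type u} [Group G] (M K Ms Ks : Subgroup G) : Prop where
  hM : IsCoatom M
  hMs : IsCoatom Ms
  hK : Cfsg.IsPiHallOf (Cfsg.kappa M) K M
  hKs : Cfsg.IsPiHallOf (Cfsg.kappa Ms) Ks Ms
  eKs : Ks = Cfsg.sigmaCore M ⊓ Subgroup.centralizer (K : Set G)
  eK : K = Cfsg.sigmaCore Ms ⊓ Subgroup.centralizer (Ks : Set G)
  neK : K ≠ ⊥
  neKs : Ks ≠ ⊥

theorem Pair.symm {G : Type u} [Group G] {M K Ms Ks : Subgroup G} (h : Pair M K Ms Ks) :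
    Pair Ms Ks M K :=
  ⟨h.hMs, h.hM, h.hKs, h.hK, h.eK, h.eKs, h.neKs, h.neK⟩

/-- `Zhat = K Ks ∖ (K ∪ Ks)`. -/
def Zhat {G : Type u} [Group G] (K Ks : Subgroup G) : Set G :=
  (↑(K ⊔ Ks) : Set G) \ ((K : Set G) ∪ (Ks : Set G))

/-- SDISJ: `σ(M) ∩ σ(Ms) = ∅`.  (If `p` lies in both, S1378 gives `Ms = gMg⁻¹`, so
`σ(Ms) = σ(M)` (`sigma_cj`); a prime `q` of `|K|` (`K ≠ 1`) is in `κ(M)`, so `q ∉ σ(M)`, but
`K ≤ Ms_σ` gives `q ∈ σ(Ms)` (`mem_sigma_of_dvd`).) -/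
def SDisj : Prop :=
  ∀ {G : Type u} [Group G] [Finite G], Cfsg.IsMinSimpleOddOrder G →
  ∀ (M K Ms Ks : Subgroup G), Pair M K Ms Ks → ∀ p : ℕ, p ∈ Cfsg.sigma M → p ∉ Cfsg.sigma Ms

/-- INT: `M ∩ Ms = K Ks` when `K` is cyclic.  (`D := M ∩ Ms`.  `M_σ ∩ Ms_σ = 1` (coprime orders,
SDISJ).  `D₁ := Ms ∩ M_σ` and `D₂ := M ∩ Ms_σ` are normalized by `D`, so `[D₁, D₂] ≤
M_σ ∩ Ms_σ = 1`.  `K ≤ D₂`, so `D₁ ≤ C_{M_σ}(K) = Ks`; `Ks ≤ D₁`, so `D₂ ≤ C_{Ms_σ}(Ks) = K`.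
So `D` normalizes `K = D₂`.  S1352 gives `U` with `IsSigmaDecomposition M K U`;
`[D, K] ≤ K ∩ [M, M] ≤ K ∩ (M_σ ⊔ U) = 1` (`S53TAU1.commutator_le_N`, `compl_N`).  So
`D ≤ C_M(k) = K ⊔ Ks` for `1 ≠ k ∈ K` (S1354).  Conversely `K, Ks ≤ M ∩ Ms`.) -/
def Int : Prop :=
  ∀ {G : Type u} [Group G] [Finite G], Cfsg.IsMinSimpleOddOrder G →
  ∀ (M K Ms Ks : Subgroup G), Pair M K Ms Ks → IsCyclic K → M ⊓ Ms = K ⊔ Ks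

/-- CENT: `C_G(x) ≤ M` for `1 ≠ x ∈ Ks`.  (`claimC` with `x' ∈ K` of prime order (Cauchy in
`K ≠ 1`): `x ∈ M_σ`, `x'` commutes with `x`, `orderOf x' ∈ κ(M)` as `K` is a `κ(M)`-group.) -/
def Cent : Prop :=
  ∀ {G : Type u} [Group G] [Finite G], Cfsg.IsMinSimpleOddOrder G →
  ∀ (M K Ms Ks : Subgroup G), Pair M K Ms Ks → ∀ x ∈ Ks, x ≠ 1 →
    Subgroup.centralizer ({x} : Set G) ≤ M

/-- FUS: `1 ≠ x ∈ Ks`, `g x g⁻¹ ∈ M` ⟹ `g ∈ M`.  (`x₀` a power of `x` of prime order `p`;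
`p ∈ σ(M)` (`mem_sigma_of_dvd`); S1404 for `X = ⟨x₀⟩`: `g = m c`, `c ∈ C_G(X) ≤ C_G(x₀) ≤ M`
by CENT.) -/
def Fus : Prop :=
  ∀ {G : Type u} [Group G] [Finite G], Cfsg.IsMinSimpleOddOrder G →
  ∀ (M K Ms Ks : Subgroup G), Pair M K Ms Ks → ∀ x ∈ Ks, x ≠ 1 → ∀ g : G,
    g * x * g⁻¹ ∈ M → g ∈ M

/-- TI: `z, g z g⁻¹ ∈ Zhat` ⟹ `g ∈ K Ks`.  (`z = k s`, `k ∈ K`, `s ∈ Ks` commuting, both `≠ 1`;
`|K|`, `|Ks|` coprime.  `x := z ^ |K| = s ^ |K| ≠ 1` lies in `Ks` and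
`g x g⁻¹ = (g z g⁻¹) ^ |K| ∈ K Ks ≤ M`: FUS gives `g ∈ M`.  Symmetrically (FUS for
`Pair.symm`) `x' := z ^ |Ks| ∈ K`, `g ∈ Ms`.  So `g ∈ M ∩ Ms = K Ks`.) -/
def TI : Prop :=
  ∀ {G : Type u} [Group G] [Finite G], Cfsg.IsMinSimpleOddOrder G →
  ∀ (M K Ms Ks : Subgroup G), Pair M K Ms Ks → M ⊓ Ms = K ⊔ Ks →
    ∀ z ∈ Zhat K Ks, ∀ g : G, g * z * g⁻¹ ∈ Zhat K Ks → g ∈ K ⊔ Ks

/-- CARDZ (pure group theory; `Ks` need NOT be abelian): if `K ∩ Ks = 1`, `K` and `Ks` commute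
elementwise and `Zhat` is TI with normalizer `K Ks`, the conjugates of `Zhat` are at least
`(|K| - 1)(|Ks| - 1)|G : K Ks|` elements.  (`|Zhat| = (|K| - 1)(|Ks| - 1)`; the map
`(q, z) ↦ q.out * z * q.out⁻¹` on `(G ⧸ K Ks) × Zhat` is injective.) -/
def CardZ : Prop :=
  ∀ {G : Type u} [Group G] [Finite G] (K Ks : Subgroup G), K ⊓ Ks = ⊥ →
    (∀ a ∈ K, ∀ b ∈ Ks, a * b = b * a) →
    (∀ z ∈ Zhat K Ks, ∀ g : G, g * z * g⁻¹ ∈ Zhat K Ks → g ∈ K ⊔ Ks) →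
    (Nat.card K - 1) * (Nat.card Ks - 1) * (K ⊔ Ks).index ≤
      Set.ncard {y : G | ∃ z ∈ Zhat K Ks, ∃ g : G, y = g * z * g⁻¹}

/-- DISJZ: no conjugate of an element of `Zhat` lies in `tilde(M_σ#)`.  (`z = k s`,
`g z g⁻¹ = y (a r) y⁻¹`, `a ∈ M_σ ∖ 1`, `r ∈ supportR M a`; `w := y⁻¹ g`, `w z w⁻¹ = a r`.
If `C_G(a) ≤ M`: `r = 1` (`suppEq`), `z ^ |M_σ| = 1`, so `k ^ |M_σ| = 1`, `k = 1`.  Otherwise
`gen` gives `N ⊇ C_G(a)` not conjugate to `M`, `r ∈ N_σ ∩ C(a)` (`suppEq`),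
`gcd(|M_σ|, |N_σ|) = 1` (S1378), so `parts_unique` gives `w s w⁻¹ = a`; FUS: `w ∈ M`; CENT:
`C_G(a) = w C_G(s) w⁻¹ ≤ M`, contradiction.) -/
def DisjZ : Prop :=
  ∀ {G : Type u} [Group G] [Finite G], Cfsg.IsMinSimpleOddOrder G →
  ∀ (M K Ms Ks : Subgroup G), Pair M K Ms Ks →
    ∀ z ∈ Zhat K Ks, ∀ g : G,
      g * z * g⁻¹ ∉ Cfsg.tildeOf M ((Cfsg.sigmaCore M : Set G) \ {1})

/-- DISJT: `tilde(M_σ#)` and `tilde(Ms_σ#)` are disjoint.  (`y (a r) y⁻¹ = y' (a' r') y'⁻¹`,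
`w := y⁻¹ y'`: `a r = (w a' w⁻¹)(w r' w⁻¹)`; `SuppConj` for `(Ms, a', w)`; `disj` (S1433) for
`M`, `N := w Ms w⁻¹`, `x = a`, `y = w a' w⁻¹`; `x ≠ y` since a prime of `orderOf a` would be in
`σ(M) ∩ σ(Ms)` (`sigma_cj`, SDISJ).) -/
def DisjT : Prop :=
  ∀ {G : Type u} [Group G] [Finite G], Cfsg.IsMinSimpleOddOrder G →
  ∀ (M K Ms Ks : Subgroup G), Pair M K Ms Ks →
    Disjoint (Cfsg.tildeOf M ((Cfsg.sigmaCore M : Set G) \ {1}))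
      (Cfsg.tildeOf Ms ((Cfsg.sigmaCore Ms : Set G) \ {1}))

/-- N0 (helper22): `U ≠ 1` ⟹ `M_σ` nilpotent.  (A prime `s` of `|U|` is `∉ σ(M) ∪ κ(M)`
(`|M| = |U| |K| |M_σ|`, `K` Hall `κ(M)`, `M_σ` Hall `σ(M)` by S1350): S1429.) -/
def N0 : Prop :=
  ∀ {G : Type u} [Group G] [Finite G], Cfsg.IsMinSimpleOddOrder G →
  ∀ (M K U : Subgroup G), IsCoatom M → Cfsg.IsSigmaDecomposition M K U → U ≠ ⊥ →
    Group.IsNilpotent ↥(Cfsg.sigmaCore M)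

/-- ZG: a `κ(Ms)`-subgroup of `Ms` has all Sylow subgroups cyclic.  (A Sylow `p`-subgroup of
`Ks` (`p ∣ |Ks|`, so `p ∈ κ(Ms)`) embeds in a Sylow `p`-subgroup of `Ms`, cyclic by the
definition of `κ`.) -/
def ZG : Prop :=
  ∀ {G : Type u} [Group G] [Finite G] (Ms Ks : Subgroup G),
    Cfsg.IsPiHallOf (Cfsg.kappa Ms) Ks Ms → IsZGroup ↥Ks

/-- P1STAR: if `Ks` is not abelian then `Ms = Ms_σ Ks`.  (`E ≥ Ks` a complement of `Ms_σ` in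
`Ms` (`exists_compl_ge`; `|Ks|` is prime to `|Ms_σ|`).  `T0 ≤ [Ks, Ks] ≤ [E, E]` of prime order
`t` (Cauchy; `[Ks, Ks] ≠ 1`); `t ∈ κ(Ms)`, so `PRankLE t 1 Ms` (`pRankLE_one_of_kappa`) and
`E ≤ N_G(T0)` (`S52NORM.main`).  `T0 ≤ Ks ≤ M_σ`, `t ∈ σ(M)`: S1404 gives
`N_G(T0) = N_M(T0) C_G(T0) ≤ M` (CENT).  So `E ≤ M ∩ Ms = K Ks`, and `Ms = Ms_σ E ≤ Ms_σ K Ks =
Ms_σ Ks` as `K ≤ Ms_σ`.) -/
def P1Star : Prop :=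
  ∀ {G : Type u} [Group G] [Finite G], Cfsg.IsMinSimpleOddOrder G →
  ∀ (M K Ms Ks : Subgroup G), Pair M K Ms Ks → M ⊓ Ms = K ⊔ Ks → ¬ IsMulCommutative ↥Ks →
    ∀ m ∈ Ms, ∃ a ∈ Cfsg.sigmaCore Ms, ∃ b ∈ Ks, m = a * b

/-- CYCSUP (pure group theory): commuting cyclic subgroups of coprime orders generate a cyclic
subgroup.  (`a`, `b` generators; `a * b` has order `|A| |B|` and `|A ⊔ B| ≤ |A| |B|`.) -/
def CycSup : Prop :=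
  ∀ {G : Type u} [Group G] [Finite G] (A B : Subgroup G), IsCyclic A → IsCyclic B →
    (∀ a ∈ A, ∀ b ∈ B, a * b = b * a) → (Nat.card A).Coprime (Nat.card B) → IsCyclic ↥(A ⊔ B)

end Cfsg.Agent.Lib.Helper54.S68Stmt
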