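import Mathlib
import Cfsg.Agent.Lib.Helper22.S56Stmt

/-!
# S1357 (last-minute call by helper54): statement pieces

S1357: `M` maximal, `M = K U M_σ`, `M_F ≠ M_σ`.  Then `U = 1`, `F(M)` is TI, `|K|` is prime.

`M_σ` is not nilpotent, so `U = ⊥`, `K ≠ ⊥` (as in `Helper20.S56DER1`), and we are in the abstract
setting `SetA`/`SetB` of `Helper93.S64Stmt` (`X = ↥M`, `H = piCore (sigma M) ↥M`, `R = K`,
`q = |K*|`) with `H` not nilpotent.
* `|K|` prime (`KPrA`): the `DerNil` assembly of S1356 with one change: if `D` centralized `O / N`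
  then `D` centralizes `O` (`Lift` with `A := D`) and `H = O × D` is nilpotent (`NilH`); so `D` does
  not centralize `O / N`, and S1446 (first clause) in `X / N` gives `|R|` prime (`FrobPrime`,
  `QuotR`).
* `F(M)` TI (`TIFin`): `F(M) ≤ M_σ`; `x ∈ F(M)`, `g x g⁻¹ ∈ F(M)`, `g ∉ M`, `x` of prime order `t`.
  `t = q`: `q ∣ |M_σ ∩ M^g|`, against S1426 and `q ∈ β(M)` (`QBeta`).  `t ≠ q`: `g x g⁻¹`
  centralizes the Sylow `q`-subgroup `O` of `M_σ` (`OEx`), `M` is the only maximal subgroup over `O`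
  (S1431), so `C_G(g x g⁻¹) ≤ M` and `g ∈ M` by S1404.
-/

set_option autoImplicit false

namespace Cfsg.Agent.Lib.Helper54.S57Stmt

universe u

open Cfsg Cfsg.Agent.Lib.Helper93.S64Stmt Cfsg.Agent.Lib.Helper22.S56Stmt

/-- [FROBPRIME] (M, pure; COPY of a landed `S56FROBMOD` file, e.g. `Helper12.S56FROBMOD`: the
hypotheses are those of `FrobMod` plus `¬ K ≤ centralizer V`; conclusion = FIRST clause of
`Cfsg.Agent.S1446.result K R W` for `W := ⁅V, K⁆`, which is `≠ ⊥` because `K` does not centralize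
`V` (`Subgroup.commutator_eq_bot_iff_le_centralizer`); `K ≠ ⊥` for the same reason. -/
def FrobPrime : Prop :=
  ∀ {Y : Type u} [Group Y] [Finite Y] (V K R : Subgroup Y) (q : ℕ) [Fact q.Prime],
    (∀ a ∈ V, ∀ b ∈ V, a * b = b * a) → (∀ a ∈ V, a ^ q = 1) →
    K ≤ Subgroup.normalizer (V : Set Y) → R ≤ Subgroup.normalizer (V : Set Y) →
    R ≤ Subgroup.normalizer (K : Set Y) → R ≠ ⊥ →
    (∀ r ∈ R, r ≠ 1 → K ⊓ Subgroup.centralizer ({r} : Set Y) = ⊥) →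
    Group.IsSolvable ↥(K ⊔ R) → Odd (Nat.card ↥(K ⊔ R)) →
    (Nat.card ↥(K ⊔ R)).Coprime q →
    (∀ x ∈ R, x ≠ 1 → V ⊓ Subgroup.centralizer ({x} : Set Y) =
      V ⊓ Subgroup.centralizer (R : Set Y)) →
    IsCyclic ↥(V ⊓ Subgroup.centralizer (R : Set Y)) →
    ¬ K ≤ Subgroup.centralizer (V : Set Y) →
    (Nat.card ↥R).Prime

/-- [QUOTR] (L; main (hQP : Cfsg.Agent.Lib.Helper93.S64Stmt.QuotPrime) (hFP : FrobPrime) : QuotR;
COPY of a landed `S56QUOT` file, e.g. `Helper13.S56QUOT`): the hypotheses of `Quot` plus: `D` does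
not centralize `O / N`; then `|R|` is prime.  `FrobPrime` for `V := O.map π`, `K := D.map π`,
`R' := R.map π` (all its other hypotheses exactly as in `S56QUOT`); `¬ K ≤ centralizer V`: else
`π (d * o * d⁻¹ * o⁻¹) = 1` for all `d ∈ D`, `o ∈ O`.  `Nat.card ↥R' = Nat.card ↥R`: `π` is
injective on `R` (`R ⊓ N ≤ R ⊓ H = ⊥` by `SetA.cop`; `Subgroup.card_map_of_injective` for the
restriction, or `Nat.card_congr` of `Subgroup.equivMapOfInjective`-type). -/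
def QuotR : Prop :=
  ∀ {X : Type u} [Group X] [Finite X] (H R D N : Subgroup X) [H.Normal] [N.Normal] (q : ℕ),
    SetA X H R → SetB X H R q → ¬ q ∣ (Oq X H q).index →
    H ⊓ Subgroup.centralizer (R : Set X) ≤ Oq X H q →
    D ≤ H → D ⊓ Oq X H q = ⊥ → R ≤ Subgroup.normalizer (D : Set X) →
    N ≤ Oq X H q → (∀ a ∈ Oq X H q, a ^ q ∈ N) →
    (∀ a ∈ Oq X H q, ∀ b ∈ Oq X H q, a * b * a⁻¹ * b⁻¹ ∈ N) →
    ¬ (∀ d ∈ D, ∀ o ∈ Oq X H q, d * o * d⁻¹ * o⁻¹ ∈ N) →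
    (Nat.card ↥R).Prime

/-- [NILH] (M, pure; COPY of a landed `S56NILPROD` file, e.g. `Helper74.S56NILPROD`, simpler):
`H = O D`, `H / O` nilpotent, `D` centralizes `O`: `H` is nilpotent.  `D ≃ D.map π` is nilpotent;
`L := O ⊔ D` is the image of `↥O × ↥D` under `(o, d) ↦ o * d`, so nilpotent; `H ≤ L`
(`Cfsg.Agent.Lib.Helper70.PNilp.nilpotent_of_le`). -/
def NilH : Prop :=
  ∀ {X : Type u} [Group X] [Finite X] (H O D : Subgroup X) [H.Normal] [O.Normal] (q : ℕ)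
    [Fact q.Prime], IsPGroup q ↥O → O ≤ H → D ≤ H → D ⊓ O = ⊥ → H ≤ O ⊔ D →
    Group.IsNilpotent ↥(H.map (QuotientGroup.mk' O)) →
    D ≤ Subgroup.centralizer (O : Set X) →
    Group.IsNilpotent ↥H

/-- [KPRA] (M-L; main (hQR : QuotR) (hNH : NilH) : KPrA; COPY of the landed `DerNil` assembly
`Cfsg.Agent.Lib.Helper93.S56DERNIL` / `Cfsg.Agent.Lib.Helper22.S56Asm`, all other pieces
instantiated from their landed mains): `O`, `D` (`HallD`), `N` (`Frat`) as there.  By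
contradiction: if `|R|` is not prime, `hQR` (contrapositive) gives `d * o * d⁻¹ * o⁻¹ ∈ N` for all
`d ∈ D`, `o ∈ O`; `Lift` with `A := D` (`|D|` prime to `q`): `D ≤ centralizer O`; `hNH`: `H` is
nilpotent. -/
def KPrA : Prop :=
  ∀ {X : Type u} [Group X] [Finite X] (H R : Subgroup X) [H.Normal] (q : ℕ),
    SetA X H R → SetB X H R q → ¬ Group.IsNilpotent ↥H → (Nat.card ↥R).Prime

/-- [QBETA] (M-L) `q = |K*| ∈ β(M)` when `M_σ` is not nilpotent.  `q` is prime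
(`(Helper93.S64GLUEB.main ..).qprime`) and divides `|M|`.  If `q ∉ β(M)`:
`((Cfsg.Agent.S1414.result hG M hM).2.2.2.2 q _ _ _).2.1 : HasNormalPComplement q ↥(sigmaCore M)`,
a normal `q`-complement `T` of `M_σ`.  `O := (Oq ↥M H q).map M.subtype` (`H := piCore (sigma M) ↥M`)
is a normal Sylow `q`-subgroup of `M_σ` (`Helper93.S64Stmt.SylNormal`, landed) and `M_σ / O` is
nilpotent (`SylNilp`, as used in `Helper93.S56DERNIL`); `T ⊓ O = ⊥`, `M_σ = O T`, `T ≃ M_σ / O`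
nilpotent, both normal in `M_σ`: `M_σ` is nilpotent (`NilH`-type argument or Fitting), so
`sigmaCore M = fittingHallOf M` (`Helper57.BG14FHCore.main_of hG M hM (S1350.result hG M hM).1`). -/
def QBeta : Prop :=
  ∀ {G : Type u} [Group G] [Finite G], Cfsg.IsMinSimpleOddOrder G →
  ∀ (M K U : Subgroup G), IsCoatom M → Cfsg.IsSigmaDecomposition M K U → K ≠ ⊥ → U = ⊥ →
    Cfsg.fittingHallOf M ≠ Cfsg.sigmaCore M →
    Nat.card ↥(Cfsg.sigmaCore M ⊓ Subgroup.centralizer (K : Set G)) ∈ Cfsg.beta M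

/-- [OEX] (M-L) a Sylow `q`-subgroup `O` of `M_σ` (`q = |K*|`) lies in `M`, in a unique maximal
subgroup, and commutes with the `q'`-elements of `F(M)`.  `S : Sylow q ↥(sigmaCore M)` any,
`O := S.map (sigmaCore M).subtype`;
`(Cfsg.Agent.S1431.result hG M hM K hKU.hall hK1).2.2.1 q hq (dvd_refl _) S` gives
`InUniqueMaximal O` and `O ≤ M`.  `O₁ := (Oq ↥M H q).map M.subtype` is a normal `q`-subgroup of `M`
inside `M_σ` with `q ∤ |M_σ : O₁|` (`SylNormal`), so `O = O₁` (a normal Sylow subgroup is the only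
one; or `O₁ ≤ O` and equal orders); `Oq ↥M H q ≤ fittingSubgroup ↥M` (normal, `q`-group, `le_sSup`);
`y ∈ F(M)` of order prime to `q` commutes with the `q`-elements of the nilpotent `F(M)` (as in
the landed `S56FLE2` files). -/
def OEx : Prop :=
  ∀ {G : Type u} [Group G] [Finite G], Cfsg.IsMinSimpleOddOrder G →
  ∀ (M K U : Subgroup G), IsCoatom M → Cfsg.IsSigmaDecomposition M K U → K ≠ ⊥ → U = ⊥ →
    ∃ O : Subgroup G, O ≤ M ∧ Cfsg.InUniqueMaximal O ∧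
      ∀ y ∈ Cfsg.fittingOf M,
        (orderOf y).Coprime (Nat.card ↥(Cfsg.sigmaCore M ⊓ Subgroup.centralizer (K : Set G))) →
        ∀ o ∈ O, y * o = o * y

/-- [TIFIN] (M-L) the TI argument.  `g ∉ normalizer F(M)`, so `g ∉ M` (`F(M)` is normalized by
`M`).  `x ∈ F(M)`, `g * x * g⁻¹ ∈ F(M)`, `x ≠ 1`: `t` a prime dividing `orderOf x`,
`x₁ := x ^ (orderOf x / t)`, `y₁ := g * x₁ * g⁻¹ ∈ F(M) ≤ M_σ`, of order `t`, and
`y₁ ∈ M.map (conj g)`.  `E := K ⊔ U`, `hE := (Helper90.BG14U.uset_of_decomp hG hM hKU).compl`,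
`(Cfsg.Agent.S1426.result hG M hM E hE).2.2 g hg`: no prime divisor of
`|M_σ ⊓ M.map (conj g)|` is in `β(M)`; so `t ≠ q`.  Then `y₁` commutes with `O`:
`O ≤ C := centralizer (zpowers y₁) ≠ ⊤` (`G` simple non-abelian: `hG`), `C ≤ L` a coatom,
`O ≤ L`, `L = M` (`InUniqueMaximal O`, `O ≤ M`), so `C ≤ M`.  `t ∈ sigma M`
(`(Cfsg.Agent.S1350.result hG M hM).1.2.1`, `t ∣ |M_σ|`);
`(Cfsg.Agent.S1404.result hG M hM t ht (zpowers y₁) ..).1 g⁻¹` (`g⁻¹ * y₁ ^ i * g = x₁ ^ i ∈ M`):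
`g⁻¹ = m * c`, `c ∈ C ≤ M`, so `g ∈ M`. -/
def TIFin : Prop :=
  ∀ {G : Type u} [Group G] [Finite G], Cfsg.IsMinSimpleOddOrder G →
  ∀ (M K U : Subgroup G), IsCoatom M → Cfsg.IsSigmaDecomposition M K U → ∀ q : ℕ, q.Prime →
    Cfsg.fittingOf M ≤ Cfsg.sigmaCore M → q ∈ Cfsg.beta M →
    (∃ O : Subgroup G, O ≤ M ∧ Cfsg.InUniqueMaximal O ∧
      ∀ y ∈ Cfsg.fittingOf M, (orderOf y).Coprime q → ∀ o ∈ O, y * o = o * y) →
    Cfsg.IsTISubset (Cfsg.fittingOf M : Set G)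

end Cfsg.Agent.Lib.Helper54.S57Stmt
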