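import Mathlib
import Cfsg.Agent.S2879
import Cfsg.Agent.Lib.Helper54.Quaternion
import Cfsg.Agent.Lib.Helper54.UniqueSubgroup

/-!
# Odd-order automorphisms of 2-groups of 2-rank one

* `centralizes_cyclic`: an element of odd order normalizing a cyclic 2-subgroup centralizes it.
* `quaternion_of_odd_action`: the `Q₈` recognition used in S2879, in a reusable form.
* `quaternion_of_ui`: a 2-subgroup `Q` with at most one involution that is normalized but not
  centralized by an element of odd order is isomorphic to `QuaternionGroup 2` (order 8).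
-/

set_option autoImplicit false

namespace Cfsg.Agent.Lib.Helper54.OddAutTwo

open Subgroup Cfsg.Agent.S2879

/-- An element of odd order normalizing a cyclic 2-subgroup centralizes it. -/
theorem centralizes_cyclic {G : Type*} [Group G] (C : Subgroup G) (hCc : IsCyclic C)
    (hC2 : ∀ c ∈ C, ∃ j : ℕ, c ^ 2 ^ j = 1) (g : G) (hg : ∀ c ∈ C, g * c * g⁻¹ ∈ C)
    {r : ℕ} (hr : g ^ r = 1) (hodd : ¬ 2 ∣ r) : ∀ c ∈ C, g * c * g⁻¹ = c := by
  obtain ⟨x₀, hx₀C, hCeq⟩ := exists_gen C hCc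
  have hcomm : ∀ c ∈ C, ∀ d ∈ C, c * d = d * c := by
    intro c hc d hd
    rw [hCeq] at hc hd
    obtain ⟨i, rfl⟩ := mem_zpowers_iff.1 hc
    obtain ⟨j, rfl⟩ := mem_zpowers_iff.1 hd
    rw [← zpow_add, ← zpow_add, add_comm]
  -- uniqueness of the involution
  have huniq : ∀ w ∈ C, ∀ w' ∈ C, w ^ 2 = 1 → w ≠ 1 → w' ^ 2 = 1 → w' ≠ 1 → w = w' := by
    intro w hw w' hw' hw2 hw1 hw'2 hw'1
    obtain ⟨n, hn⟩ : ∃ n, orderOf x₀ = 2 ^ n := by
      obtain ⟨j, hj⟩ := hC2 x₀ hx₀C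
      obtain ⟨n, -, hn⟩ := (Nat.dvd_prime_pow Nat.prime_two).1 (orderOf_dvd_of_pow_eq_one hj)
      exact ⟨n, hn⟩
    rcases Nat.eq_zero_or_pos n with h0 | hpos
    · exfalso
      rw [h0, pow_zero, orderOf_eq_one_iff] at hn
      rw [hCeq, hn, zpowers_one_eq_bot, mem_bot] at hw
      exact hw1 hw
    · obtain ⟨k, rfl⟩ : ∃ k, n = k + 1 := ⟨n - 1, by omega⟩
      have hord : orderOf x₀ = 2 * 2 ^ k := by rw [hn, pow_succ]; ring
      rw [hCeq] at hw hw'
      rw [Cfsg.Agent.Lib.Helper54.Quaternion.eq_pow_half_of_mem_zpowers hord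
          (orderOf_eq_prime hw2 hw1) hw,
        Cfsg.Agent.Lib.Helper54.Quaternion.eq_pow_half_of_mem_zpowers hord
          (orderOf_eq_prime hw'2 hw'1) hw']
  have hE1 : ∀ k : ℕ, ∀ c ∈ C, c ^ 2 ^ k = 1 → g * c * g⁻¹ = c := by
    intro k
    induction k with
    | zero => intro c _ hc; rw [pow_zero, pow_one] at hc; rw [hc]; group
    | succ k ih =>
      intro c hc hck
      have hc2 : g * c ^ 2 * g⁻¹ = c ^ 2 := by
        apply ih _ (pow_mem hc 2)
        rw [← pow_mul, ← pow_succ']; exact hck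
      obtain ⟨w, hw⟩ : ∃ w, w = c⁻¹ * (g * c * g⁻¹) := ⟨_, rfl⟩
      have hwC : w ∈ C := by rw [hw]; exact mul_mem (inv_mem hc) (hg c hc)
      have hw2 : w ^ 2 = 1 := by
        have hcm : c⁻¹ * (g * c * g⁻¹) = (g * c * g⁻¹) * c⁻¹ :=
          hcomm _ (inv_mem hc) _ (hg c hc)
        calc w ^ 2 = c⁻¹ * (g * c * g⁻¹) * (c⁻¹ * (g * c * g⁻¹)) := by rw [hw, pow_two]
          _ = c⁻¹ * (g * c * g⁻¹) * ((g * c * g⁻¹) * c⁻¹) := by rw [← hcm]
          _ = c⁻¹ * (g * c ^ 2 * g⁻¹) * c⁻¹ := by rw [pow_two]; group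
          _ = 1 := by rw [hc2]; group
      have hgw : g * w * g⁻¹ = w := by
        by_cases hw1 : w = 1
        · rw [hw1]; group
        · apply huniq _ (hg w hwC) _ hwC _ _ hw2 hw1
          · rw [conj_pow, hw2]; group
          · intro h
            apply hw1
            have : w = g⁻¹ * (g * w * g⁻¹) * g := by group
            rw [this, h]; group
      have h1 : g * c * g⁻¹ = c * w := by rw [hw]; group
      have hw1 : w = 1 := fix_of_odd h1 hgw hr hodd (j := 1) (by rw [pow_one]; exact hw2)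
      rw [h1, hw1, mul_one]
  intro c hc
  obtain ⟨k, hk⟩ := hC2 c hc
  exact hE1 k c hc hk

/-- The `Q₈` recognition of S2879: `T` a 2-group with a cyclic subgroup `C` of index 2 whose
outside elements have order dividing 4 and invert the elements of order dividing 4 of `C`; a
subgroup `Q ≤ T` normalized, but not centralized, by an element `g` of odd order fixing the
involutions of `Q`, is quaternion of order 8. -/
theorem quaternion_of_odd_action {G : Type*} [Group G] [Finite G] (T C Q : Subgroup G)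
    (hT2 : ∀ t ∈ T, ∃ j : ℕ, t ^ 2 ^ j = 1) (hCT : C ≤ T) (hCc : IsCyclic C)
    (hcard : Nat.card T = 2 * Nat.card C)
    (hP : ∀ t ∈ T, t ∉ C → t ^ 4 = 1 ∧ ∀ c ∈ C, c ^ 4 = 1 → t * c * t⁻¹ = c⁻¹)
    (hQT : Q ≤ T) (g : G) (hgQ : ∀ q ∈ Q, g * q * g⁻¹ ∈ Q) {r : ℕ} (hr : g ^ r = 1)
    (hodd : ¬ 2 ∣ r) (hz : ∀ w ∈ Q, w ^ 2 = 1 → g * w * g⁻¹ = w)
    (hgC : ∃ q ∈ Q, g * q * g⁻¹ ≠ q) :
    Nat.card Q = 8 ∧ Nonempty (Q ≃* QuaternionGroup 2) := by
  classical
  obtain ⟨Q₀, hQ₀⟩ : ∃ Q₀, Q₀ = Q ⊓ C := ⟨_, rfl⟩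
  have hQ₀Q : Q₀ ≤ Q := by rw [hQ₀]; exact inf_le_left
  have hQ₀C : Q₀ ≤ C := by rw [hQ₀]; exact inf_le_right
  have hmemQ₀ : ∀ q, q ∈ Q → q ∈ C → q ∈ Q₀ := by intro q h1 h2; rw [hQ₀]; exact ⟨h1, h2⟩
  have hQ₀c : IsCyclic Q₀ :=
    isCyclic_of_injective (Subgroup.inclusion hQ₀C) (Subgroup.inclusion_injective hQ₀C)
  have hnorm : ¬ ∀ c ∈ Q₀, g * c * g⁻¹ ∈ Q₀ := by
    intro hnorm
    have hE1' : ∀ c ∈ Q₀, g * c * g⁻¹ = c :=
      centralizes_cyclic Q₀ hQ₀c (fun c hc => hT2 c (hCT (hQ₀C hc))) g hnorm hr hodd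
    obtain ⟨q, hq, hne⟩ := hgC
    apply hne
    by_cases hqQ₀ : q ∈ Q₀
    · exact hE1' q hqQ₀
    · have hqC : q ∉ C := fun h => hqQ₀ (hmemQ₀ q hq h)
      have hq'Q : g * q * g⁻¹ ∈ Q := hgQ q hq
      have hq'C : g * q * g⁻¹ ∉ C := by
        intro h
        have h1 := hE1' _ (hmemQ₀ _ hq'Q h)
        have h2 : g * q * g⁻¹ = q := by
          have : g * q * g⁻¹ = g⁻¹ * (g * (g * q * g⁻¹) * g⁻¹) * g := by group
          rw [this, h1]; group
        rw [h2] at h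
        exact hqC h
      obtain ⟨w, hw⟩ : ∃ w, w = q⁻¹ * (g * q * g⁻¹) := ⟨_, rfl⟩
      have hwC : w ∈ C := by
        rw [hw]
        exact mem_of_index_two hCT hcard (hQT hq) (hQT hq'Q) hqC hq'C
      have hwQ₀ : w ∈ Q₀ := hmemQ₀ w (by rw [hw]; exact mul_mem (inv_mem hq) hq'Q) hwC
      have h1 : g * q * g⁻¹ = q * w := by rw [hw]; group
      obtain ⟨k, hk⟩ := hT2 w (hCT hwC)
      have hw1 : w = 1 := fix_of_odd h1 (hE1' w hwQ₀) hr hodd hk
      rw [h1, hw1, mul_one]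
  obtain ⟨q₀, hq₀Q₀, hQ₀eq⟩ := exists_gen Q₀ hQ₀c
  obtain ⟨q₁, hq₁⟩ : ∃ q₁, q₁ = g * q₀ * g⁻¹ := ⟨_, rfl⟩
  have hq₁Q₀ : q₁ ∉ Q₀ := by
    intro h
    apply hnorm
    intro c hc
    rw [hQ₀eq] at hc
    obtain ⟨i, rfl⟩ := mem_zpowers_iff.1 hc
    rw [← conj_zpow, ← hq₁]
    exact zpow_mem h i
  have hq₀Q : q₀ ∈ Q := hQ₀Q hq₀Q₀
  have hq₀C : q₀ ∈ C := hQ₀C hq₀Q₀
  have hq₁Q : q₁ ∈ Q := by rw [hq₁]; exact hgQ q₀ hq₀Q
  have hq₁C : q₁ ∉ C := fun h => hq₁Q₀ (hmemQ₀ q₁ hq₁Q h)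
  have hq₁T : q₁ ∈ T := hQT hq₁Q
  have hq₁4 : q₁ ^ 4 = 1 := (hP q₁ hq₁T hq₁C).1
  have hq₀4 : q₀ ^ 4 = 1 := by
    rw [hq₁, conj_pow] at hq₁4
    have : q₀ ^ 4 = g⁻¹ * (g * q₀ ^ 4 * g⁻¹) * g := by group
    rw [this, hq₁4]; group
  have hq₀2 : q₀ ^ 2 ≠ 1 := by
    intro h
    apply hq₁Q₀
    rw [hq₁, hz q₀ hq₀Q h]
    exact hq₀Q₀
  have hq₁z : q₁ * q₁ = q₀ ^ 2 := by
    rw [← pow_two, hq₁, conj_pow]
    apply hz _ (pow_mem hq₀Q 2)
    rw [← pow_mul]; exact hq₀4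
  have hinv : q₁ * q₀ * q₁⁻¹ = q₀⁻¹ := (hP q₁ hq₁T hq₁C).2 q₀ hq₀C hq₀4
  have hoq₀ : orderOf q₀ = 2 * 2 := by
    have := orderOf_eq_prime_pow (p := 2) (n := 1) (x := q₀) (by simpa using hq₀2)
      (by simpa using hq₀4)
    simpa using this
  have hcardQ : Nat.card Q = 4 * 2 := by
    have hidx : (Q₀.subgroupOf Q).index = 2 := by
      rw [Subgroup.index_eq_two_iff]
      refine ⟨⟨q₁, hq₁Q⟩, ?_⟩
      intro b
      by_cases hb : (b : G) ∈ Q₀
      · right
        refine ⟨hb, ?_⟩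
        intro h
        have h' : (b : G) * q₁ ∈ Q₀ := h
        exact hq₁Q₀ ((Subgroup.mul_mem_cancel_left Q₀ hb).1 h')
      · left
        refine ⟨?_, hb⟩
        show (b : G) * q₁ ∈ Q₀
        have hbC : (b : G) ∉ C := fun h => hb (hmemQ₀ _ b.2 h)
        have := mem_of_index_two hCT hcard (a := (b : G)⁻¹) (b := q₁) (inv_mem (hQT b.2)) hq₁T
          (fun h => hbC (by simpa using h)) hq₁C
        rw [inv_inv] at this
        exact hmemQ₀ _ (mul_mem b.2 hq₁Q) this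
    have h := Subgroup.card_mul_index (Q₀.subgroupOf Q)
    rw [hidx, Nat.card_congr (Subgroup.subgroupOfEquivOfLe hQ₀Q).toEquiv, hQ₀eq,
      Nat.card_zpowers, hoq₀] at h
    omega
  refine ⟨by rw [hcardQ], ?_⟩
  apply Cfsg.Agent.Lib.Helper54.Quaternion.quaternion_iso (⟨q₀, hq₀Q⟩ : Q) ⟨q₁, hq₁Q⟩ 2
  · rw [Subgroup.orderOf_mk]; exact hoq₀
  · norm_num
  · exact hcardQ
  · apply Subtype.ext
    show q₁ * q₁ = q₀ ^ 2
    exact hq₁z
  · intro h
    obtain ⟨i, hi⟩ := mem_zpowers_iff.1 h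
    apply hq₁Q₀
    rw [hQ₀eq, mem_zpowers_iff]
    exact ⟨i, by simpa using congrArg Subtype.val hi⟩
  · apply Subtype.ext
    show q₁ * q₀ * q₁⁻¹ = q₀⁻¹
    exact hinv

/-- Groups with a cyclic subgroup of index 2 whose outside elements have order dividing 4 and
invert the elements of order dividing 4 inside. -/
def HT' (S : Type*) [Group S] : Prop :=
  ∃ C : Subgroup S, IsCyclic C ∧ C.index = 2 ∧
    ∀ t, t ∉ C → t ^ 4 = 1 ∧ ∀ c ∈ C, c ^ 4 = 1 → t * c * t⁻¹ = c⁻¹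

theorem HT'_of_equiv {S S' : Type*} [Group S] [Group S'] (e : S ≃* S') (h : HT' S') : HT' S := by
  obtain ⟨C, hc, hi, hP⟩ := h
  have hinj : Function.Injective (e.toMonoidHom.subgroupComap C) := by
    intro a b hab
    apply Subtype.ext
    apply e.injective
    exact congrArg Subtype.val hab
  refine ⟨C.comap e.toMonoidHom, ?_, ?_, ?_⟩
  · exact isCyclic_of_injective (e.toMonoidHom.subgroupComap C) hinj
  · rw [Subgroup.index_comap_of_surjective _ e.surjective, hi]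
  · intro t ht
    have ht' : e t ∉ C := ht
    obtain ⟨h1, h2⟩ := hP _ ht'
    refine ⟨?_, ?_⟩
    · apply e.injective; rw [map_pow, h1, map_one]
    · intro c hc hc4
      have hc' : e c ∈ C := hc
      apply e.injective
      rw [map_mul, map_mul, map_inv, map_inv]
      exact h2 _ hc' (by rw [← map_pow, hc4, map_one])

theorem HT'_quaternion (n : ℕ) [NeZero n] : HT' (QuaternionGroup n) := by
  have hn0 : 0 < n := Nat.pos_of_ne_zero (NeZero.ne n)
  have hr : ∀ i : ZMod (2 * n), QuaternionGroup.a i ∈ zpowers (QuaternionGroup.a (1 : ZMod (2 * n))) := by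
    intro i
    have h := QuaternionGroup.a_one_pow (n := n) i.val
    rw [ZMod.natCast_zmod_val] at h
    rw [← h]
    exact pow_mem (mem_zpowers _) _
  have hsr : ∀ i : ZMod (2 * n), QuaternionGroup.xa i ∉ zpowers (QuaternionGroup.a (1 : ZMod (2 * n))) := by
    intro i hi
    obtain ⟨k, hk⟩ := mem_zpowers_iff.1 hi
    have h2 : ∀ k : ℤ, ∃ j, (QuaternionGroup.a (1 : ZMod (2 * n))) ^ k = QuaternionGroup.a j := by
      intro k
      induction k using Int.induction_on with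
      | zero => exact ⟨0, by rw [zpow_zero]; rfl⟩
      | succ k ih =>
        obtain ⟨j, hj⟩ := ih
        exact ⟨j + 1, by rw [zpow_add_one, hj, QuaternionGroup.a_mul_a]⟩
      | pred k ih =>
        obtain ⟨j, hj⟩ := ih
        refine ⟨j - 1, ?_⟩
        have hinv : (QuaternionGroup.a (1 : ZMod (2 * n)))⁻¹ = QuaternionGroup.a (-1) := rfl
        rw [zpow_sub_one, hj, hinv, QuaternionGroup.a_mul_a]
        congr 1
        ring
    obtain ⟨j, hj⟩ := h2 k
    rw [hj] at hk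
    exact absurd hk (by simp)
  have hcard : Nat.card (zpowers (QuaternionGroup.a (1 : ZMod (2 * n)))) = 2 * n := by
    rw [Nat.card_zpowers, QuaternionGroup.orderOf_a_one]
  refine ⟨zpowers (QuaternionGroup.a 1), inferInstance, ?_, ?_⟩
  · have h := Subgroup.card_mul_index (zpowers (QuaternionGroup.a (1 : ZMod (2 * n))))
    rw [hcard, Nat.card_eq_fintype_card, QuaternionGroup.card] at h
    nlinarith
  · intro t ht
    rcases t with i | i
    · exact absurd (hr i) ht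
    · refine ⟨QuaternionGroup.xa_pow_four i, ?_⟩
      intro c hc _
      rcases c with j | j
      · have hinv1 : (QuaternionGroup.xa i : QuaternionGroup n)⁻¹ = QuaternionGroup.xa ((n : ZMod (2 * n)) + i) := rfl
        have hinv2 : (QuaternionGroup.a j : QuaternionGroup n)⁻¹ = QuaternionGroup.a (-j) := rfl
        have h2n : (n : ZMod (2 * n)) * 2 = 0 := by
          have := ZMod.natCast_self (2 * n)
          push_cast at this
          linear_combination this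
        rw [QuaternionGroup.xa_mul_a, hinv1, QuaternionGroup.xa_mul_xa, hinv2]
        congr 1
        have h3 : (n : ZMod (2 * n)) + (n + i) - (i + j) = n * 2 - j := by ring
        rw [h3, h2n, zero_sub]
      · exact absurd hc (hsr j)

/-- A 2-subgroup `Q` with at most one involution, normalized but not centralized by an element
of odd order, is isomorphic to the quaternion group of order 8. -/
theorem quaternion_of_ui {G : Type*} [Group G] [Finite G] (Q : Subgroup G) (hQ2 : IsPGroup 2 Q)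
    (hUI : ∀ a ∈ Q, ∀ b ∈ Q, a ^ 2 = 1 → b ^ 2 = 1 → a ≠ 1 → b ≠ 1 → a = b)
    (g : G) (hgQ : ∀ q ∈ Q, g * q * g⁻¹ ∈ Q) {r : ℕ} (hr : g ^ r = 1) (hodd : ¬ 2 ∣ r)
    (hgC : ∃ q ∈ Q, g * q * g⁻¹ ≠ q) :
    Nat.card Q = 8 ∧ Nonempty (Q ≃* QuaternionGroup 2) := by
  have hT2 : ∀ t ∈ Q, ∃ j : ℕ, t ^ 2 ^ j = 1 := by
    intro t ht
    obtain ⟨j, hj⟩ := hQ2 ⟨t, ht⟩
    exact ⟨j, by simpa using congrArg Subtype.val hj⟩
  have hz : ∀ w ∈ Q, w ^ 2 = 1 → g * w * g⁻¹ = w := by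
    intro w hw hw2
    by_cases hw1 : w = 1
    · rw [hw1]; group
    · apply hUI _ (hgQ w hw) _ hw _ hw2 _ hw1
      · rw [conj_pow, hw2]; group
      · intro h
        apply hw1
        have : w = g⁻¹ * (g * w * g⁻¹) * g := by group
        rw [this, h]; group
  have hUI' : Cfsg.Agent.Lib.Helper54.UniqueSubgroup.UI 2 ↥Q := by
    intro a b ha hb ha1
    by_cases hb1 : b = 1
    · rw [hb1]; exact one_mem _
    · have h := hUI a a.2 b b.2 (by exact_mod_cast congrArg Subtype.val ha)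
        (by exact_mod_cast congrArg Subtype.val hb)
        (fun h => ha1 (Subtype.ext h)) (fun h => hb1 (Subtype.ext h))
      have : a = b := Subtype.ext h
      rw [this]; exact mem_zpowers b
  rcases Cfsg.Agent.Lib.Helper54.Quaternion.isCyclic_or_quaternion hQ2 hUI' with hc | ⟨n, ⟨e⟩⟩
  · exfalso
    obtain ⟨q, hq, hne⟩ := hgC
    exact hne (centralizes_cyclic Q hc hT2 g hgQ hr hodd q hq)
  · have : NeZero (2 ^ n) := ⟨by positivity⟩
    obtain ⟨C, hc, hi, hP⟩ := HT'_of_equiv e (HT'_quaternion (2 ^ n))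
    have hcardeq : Nat.card (C.map Q.subtype) = Nat.card C :=
      (Nat.card_congr (Subgroup.equivMapOfInjective C _ (Subgroup.subtype_injective _)).toEquiv).symm
    apply quaternion_of_odd_action Q (C.map Q.subtype) Q hT2 (Subgroup.map_subtype_le C)
      ((Subgroup.equivMapOfInjective C _ (Subgroup.subtype_injective _)).isCyclic.1 hc)
      (by rw [hcardeq, ← Subgroup.card_mul_index C, hi, mul_comm]) ?_ le_rfl g hgQ hr hodd hz hgC
    intro t ht htC
    have htC' : (⟨t, ht⟩ : Q) ∉ C := by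
      intro h
      exact htC ⟨⟨t, ht⟩, h, rfl⟩
    obtain ⟨h1, h2⟩ := hP _ htC'
    refine ⟨?_, ?_⟩
    · have := congrArg Subtype.val h1
      exact this
    · rintro c ⟨c', hc', rfl⟩ hc4
      have h3 := h2 c' hc' (Subtype.ext hc4)
      have := congrArg Subtype.val h3
      exact this

end Cfsg.Agent.Lib.Helper54.OddAutTwo
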