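import Cfsg.Prelude.Def_OddOrderLocal

/-!
# S1372 (B&G 16.1(a),(b)-style: `|K|` prime, `F(M)` a TI-subset, `M_σ ≤ F(M)`): piece statements

Setting: `G` minimal simple of odd order, `M` maximal, `M = K U M_σ` a standard factorisation
with `K ≠ 1`, `U ≠ 1`.  Landed inputs: `Helper55.S66KPR.main` (`|K|` prime),
`Helper22.BG147N0.nilpotent_of_U_ne_bot` (`M_σ` nilpotent), `Helper73.BG14Final.gen`,
`S1404`, `S1431`, `S1432`, `S1353`, `S1354`, `Helper22.S72PRIMEV.main`.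

Plan of the TI proof.  `N_G(F(M)) = M`.  Let `x ∈ F(M)` of prime order `t`, `g x g⁻¹ ∈ F(M)`;
we show `g ∈ M`.
* `t ∉ σ(M)`: `x` centralizes some `z ≠ 1` in `M_σ` (SIGCOMM), `t ∉ κ(M)` (NOKAP), so `S1432`
  gives that `M` is the only maximal subgroup over `C_G(x)`; the same for `g x g⁻¹`; so
  `g M g⁻¹ = M`.
* `t ∈ σ(M)`: `g = m c`, `c ∈ C_G(x)` (FUS, from `S1404`), and `C_G(x) ≤ M` (claim C).
  Claim C: else `gen` gives `N ≠ M` maximal over `C_G(x)` with `t ∈ τ₂(N)`.  No Sylow subgroup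
  of `M_σ` for a prime dividing `|K*|` lies in `C_G(x)` (`S1431`(3)); Sylow `s`-subgroups for
  `s ≠ t` do (TONLY), so `t ∣ |K*|` and the Sylow `t`-subgroup `T ∋ x` of `M_σ` (TSYL) is not
  inside `C_G(x)`.  OMEGA gives `V = Ω₁(Z(T))`, normal in `M`, inside `M_σ`: either of prime
  order - impossible by PRIMEV - or `⟨x⟩ V ≤ C_G(x) ≤ N` is elementary abelian of order `> t²`,
  against `t ∈ τ₂(N)`.
-/

set_option autoImplicit false

universe u

namespace Cfsg.Agent.Lib.Helper54.S72Stmt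

/-- OMEGA (pure group theory).  `T` a `t`-subgroup, `x ∈ T` of order `t`, `T ⊄ C_G(x)`.
Take `V := {z ∈ T | z centralizes T, z ^ t = 1}` (`= Ω₁(Z(T))`): a subgroup, inside `T`,
nontrivial (`T ≠ 1` is a `t`-group so `Z(T) ≠ 1`: `IsPGroup.center_nontrivial`, then a power of
a central element has order `t`), normalized by `N_G(T)`.  `|V| = t ^ k`, `k ≥ 1`.  If `k = 1`
left.  Else `E := V ⊔ zpowers x`: commutative (`V` central in `T ∋ x`), exponent `t`,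
`E ≤ C_G(x)`, and `V < E` as `x ∉ V` (else `T ≤ C_G(x)`), so `|E| ≥ 2 |V| > t ^ 2`. -/
def Omega : Prop :=
  ∀ {G : Type u} [Group G] [Finite G] (t : ℕ), t.Prime → ∀ (T : Subgroup G), IsPGroup t T →
  ∀ x ∈ T, orderOf x = t → ¬ T ≤ Subgroup.centralizer ({x} : Set G) →
    ∃ V : Subgroup G, V ≤ T ∧ V ≠ ⊥ ∧
      (∀ g : G, g ∈ Subgroup.normalizer (T : Set G) → g ∈ Subgroup.normalizer (V : Set G)) ∧
      ((Nat.card V).Prime ∨
        ∃ E : Subgroup G, E ≤ Subgroup.centralizer ({x} : Set G) ∧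
          Cfsg.IsElementaryAbelian t E ∧ t ^ 2 < Nat.card E)

/-- TSYL (pure group theory).  `S ≤ M` nilpotent and normalized by `M`, `x ∈ S` of prime order
`t`.  Some Sylow `t`-subgroup `T₀` of `S` contains `x` (`IsPGroup.exists_le_sylow`); it is normal
in `S` (nilpotent: `isNilpotent_of_finite_tfae`), hence the only Sylow `t`-subgroup of `S`, so
its image `T` in `G` is normalized by `M` (`m T m⁻¹ ≤ S` is again the image of a Sylow
`t`-subgroup of `S`; or: `T` = the set of `t`-elements of `S`). -/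
def TSyl : Prop :=
  ∀ {G : Type u} [Group G] [Finite G] (M S : Subgroup G), S ≤ M →
  M ≤ Subgroup.normalizer (S : Set G) → Group.IsNilpotent ↥S →
  ∀ (t : ℕ) [Fact t.Prime], ∀ x ∈ S, orderOf x = t →
    ∃ T₀ : Sylow t ↥S, x ∈ (T₀ : Subgroup ↥S).map S.subtype ∧
      M ≤ Subgroup.normalizer (((T₀ : Subgroup ↥S).map S.subtype : Subgroup G) : Set G)

/-- TONLY (pure group theory).  `S` nilpotent, `x ∈ S` of prime order `t`, `s ≠ t` a prime:
every Sylow `s`-subgroup of `S` centralizes `x` (elements of coprime orders in a nilpotent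
group commute: `Cfsg.Agent.Lib.Helper10.KW0.commute_of_coprime`). -/
def TOnly : Prop :=
  ∀ {G : Type u} [Group G] [Finite G] (S : Subgroup G), Group.IsNilpotent ↥S →
  ∀ (t : ℕ), t.Prime → ∀ x ∈ S, orderOf x = t → ∀ (s : ℕ) [Fact s.Prime], s ≠ t →
  ∀ S₀ : Sylow s ↥S, (S₀ : Subgroup ↥S).map S.subtype ≤ Subgroup.centralizer ({x} : Set G)

/-- PRIMEV (helper22, via `S1446`): no subgroup of prime order of `M_σ` is normalized by `K`
and `U`. -/
def PrimeV : Prop :=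
  ∀ {G : Type u} [Group G] [Finite G], Cfsg.IsMinSimpleOddOrder G →
  ∀ (M K U V : Subgroup G), IsCoatom M → Cfsg.IsSigmaDecomposition M K U → K ≠ ⊥ → U ≠ ⊥ →
    V ≤ Cfsg.sigmaCore M → K ≤ Subgroup.normalizer (V : Set G) →
    U ≤ Subgroup.normalizer (V : Set G) → (Nat.card V).Prime → False

/-- SIGCOMM.  `x ∈ F(M)` of prime order `t ∉ σ(M)` centralizes some `z ≠ 1` of `M_σ`.
(`M_σ ≠ 1` by `S1354` (`K* ≠ 1`, `K* ≤ M_σ`); `z ∈ M_σ` of prime order `s`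
(`Helper83.ZhatCore.exists_prime_order_mem`), `s ∈ σ(M)` (`Helper9.BG11b.mem_sigma_of_dvd` /
`Helper90.FamCount`), so `s ≠ t`; `M_σ ≤ F(M)` (`Helper50.BG157.le_fittingOf_of_normal` with
`Helper22.BG147N0.nilpotent_of_U_ne_bot`, `Helper9.BG11b.sigmaCore_normal/sigmaCore_le`);
`F(M)` nilpotent (`Helper90.Bender.fittingOf_isNilpotent`); coprime orders commute
(`Helper10.KW0.commute_of_coprime`).) -/
def SigComm : Prop :=
  ∀ {G : Type u} [Group G] [Finite G], Cfsg.IsMinSimpleOddOrder G →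
  ∀ (M K U : Subgroup G), IsCoatom M → Cfsg.IsSigmaDecomposition M K U → U ≠ ⊥ →
  ∀ x ∈ Cfsg.fittingOf M, (orderOf x).Prime → orderOf x ∉ Cfsg.sigma M →
    ∃ z ∈ Cfsg.sigmaCore M, z ≠ 1 ∧ z * x = x * z

/-- NOKAP.  `x ∈ F(M)` of prime order `t`: `t ∉ κ(M)`.  (Else `|K| = t` (`|K|` prime by
`Helper55.S66KPR.main`, `K` a Hall `κ(M)`-subgroup, `t ∣ |M|`), so `t² ∤ |M|` and `⟨x⟩` is a
Sylow `t`-subgroup of `M`.  For `m ∈ M`, `x` and `m x m⁻¹` are `t`-elements of the nilpotent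
`F(M)` (`Helper90.Bender.fittingOf_isNilpotent`), so they generate a `t`-subgroup of `M`, of
order `≤ t`: `m x m⁻¹ ∈ ⟨x⟩`, `⟨x⟩ ⊴ M`; `K` is conjugate in `M` to `⟨x⟩`, so `K = ⟨x⟩ ⊴ M`.
Then `U` normalizes `K`, `K` normalizes `U`, `K ∩ U = 1`: `U` centralizes `K`, against `S1353`
(`U ∩ C_G(k) = 1` for `1 ≠ k ∈ K`) and `U ≠ 1`.) -/
def NoKap : Prop :=
  ∀ {G : Type u} [Group G] [Finite G], Cfsg.IsMinSimpleOddOrder G →
  ∀ (M K U : Subgroup G), IsCoatom M → Cfsg.IsSigmaDecomposition M K U → K ≠ ⊥ → U ≠ ⊥ →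
  ∀ x ∈ Cfsg.fittingOf M, (orderOf x).Prime → orderOf x ∉ Cfsg.kappa M

/-- FUS (from `S1404` with `X = zpowers x`). -/
def Fus : Prop :=
  ∀ {G : Type u} [Group G] [Finite G], Cfsg.IsMinSimpleOddOrder G →
  ∀ (M : Subgroup G), IsCoatom M → ∀ x ∈ M, (orderOf x).Prime → orderOf x ∈ Cfsg.sigma M →
  ∀ g : G, g * x * g⁻¹ ∈ M →
    ∃ m ∈ M, ∃ c ∈ Subgroup.centralizer ({x} : Set G), g = m * c

/-- Claim C: `C_G(x) ≤ M` for `x ∈ M_σ` of prime order. -/
def ClaimC : Prop :=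
  ∀ {G : Type u} [Group G] [Finite G], Cfsg.IsMinSimpleOddOrder G →
  ∀ (M K U : Subgroup G), IsCoatom M → Cfsg.IsSigmaDecomposition M K U → K ≠ ⊥ → U ≠ ⊥ →
  ∀ x ∈ Cfsg.sigmaCore M, (orderOf x).Prime → Subgroup.centralizer ({x} : Set G) ≤ M

/-- SIGOUT: for `x ∈ F(M)` of prime order outside `σ(M)`, `M` is the only maximal subgroup
over `C_G(x)`. -/
def SigOut : Prop :=
  ∀ {G : Type u} [Group G] [Finite G], Cfsg.IsMinSimpleOddOrder G →
  ∀ (M K U : Subgroup G), IsCoatom M → Cfsg.IsSigmaDecomposition M K U → K ≠ ⊥ → U ≠ ⊥ →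
  ∀ x ∈ Cfsg.fittingOf M, (orderOf x).Prime → orderOf x ∉ Cfsg.sigma M →
    ∀ L : Subgroup G, IsCoatom L → Subgroup.centralizer ({x} : Set G) ≤ L → L = M

/-- The statement. -/
def Final : Prop :=
  ∀ {G : Type u} [Group G] [Finite G], Cfsg.IsMinSimpleOddOrder G →
  ∀ (M : Subgroup G), IsCoatom M → ∀ (K U : Subgroup G), Cfsg.IsSigmaDecomposition M K U →
    K ≠ ⊥ → U ≠ ⊥ →
    (Nat.card K).Prime ∧ Cfsg.IsTISubset (Cfsg.fittingOf M : Set G) ∧
      Cfsg.sigmaCore M ≤ Cfsg.fittingOf M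

end Cfsg.Agent.Lib.Helper54.S72Stmt
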