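import Mathlib
import Cfsg.Agent.Lib.Helper25.ACStmt
import Cfsg.Agent.Lib.Helper25.ACOddStmt

/-! S3911 piece INDUCT11 (second seat): the statement from `KeyOdd` and `Transfer`, by strong
induction on the order of the normal subgroup. -/

set_option autoImplicit false

namespace Cfsg.Agent.Lib.Helper54.AOINDUCT11

open Cfsg.Agent.Lib.Helper25.ACStmt Cfsg.Agent.Lib.Helper25.ACOddStmt

universe u

theorem main (hK : KeyOdd.{u}) (hT : Transfer.{u}) : Goal11.{u} := by
  have key : ∀ n : ℕ, ∀ (G : Type u) [Group G] [Finite G], PropB G →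
      ∀ (M : Subgroup G) [M.Normal], Odd (Nat.card ↥M) → Nat.card ↥M = n → PropB (G ⧸ M) := by
    intro n
    induction n using Nat.strong_induction_on with
    | _ n ih =>
      intro G _ _ hB M hMn hodd hn
      by_cases hM : M = ⊥
      · subst hM
        exact hT G (G ⧸ (⊥ : Subgroup G)) QuotientGroup.quotientBot.symm hB
      · have hOB : OddBelow.{u} (Nat.card ↥M) := by
          intro G' _ _ hB' N' _ hodd' hlt'
          exact ih (Nat.card ↥N') (by omega) G' hB' N' hodd' rfl
        obtain ⟨N, hNn, hNbot, hNM, hBN⟩ := hK G hB M hMn hM hodd hOB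
        haveI := hNn
        have e := QuotientGroup.quotientQuotientEquivQuotient N M hNM
        have h1 : Nat.card G = Nat.card (G ⧸ N) * Nat.card ↥N :=
          Subgroup.card_eq_card_quotient_mul_card_subgroup N
        have h2 : Nat.card G = Nat.card (G ⧸ M) * Nat.card ↥M :=
          Subgroup.card_eq_card_quotient_mul_card_subgroup M
        have h3 : Nat.card (G ⧸ N) =
            Nat.card ((G ⧸ N) ⧸ M.map (QuotientGroup.mk' N)) *
              Nat.card ↥(M.map (QuotientGroup.mk' N)) :=
          Subgroup.card_eq_card_quotient_mul_card_subgroup _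
        have h4 : Nat.card ((G ⧸ N) ⧸ M.map (QuotientGroup.mk' N)) = Nat.card (G ⧸ M) :=
          Nat.card_congr e.toEquiv
        have hpos : 0 < Nat.card (G ⧸ M) := Nat.card_pos
        have h5 : Nat.card ↥M = Nat.card ↥(M.map (QuotientGroup.mk' N)) * Nat.card ↥N := by
          rw [h4] at h3
          rw [h3] at h1
          rw [h1] at h2
          have : Nat.card (G ⧸ M) * (Nat.card ↥(M.map (QuotientGroup.mk' N)) * Nat.card ↥N) =
              Nat.card (G ⧸ M) * Nat.card ↥M := by
            rw [← h2]; ring
          exact (Nat.eq_of_mul_eq_mul_left hpos this).symm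
        have hodd' : Odd (Nat.card ↥(M.map (QuotientGroup.mk' N))) := by
          rw [h5] at hodd
          exact (Nat.odd_mul.mp hodd).1
        have hN2 : 1 < Nat.card ↥N := by
          have hne : Nat.card ↥N ≠ 1 := fun h => hNbot (Subgroup.card_eq_one.mp h)
          have hpos : 0 < Nat.card ↥N := Nat.card_pos
          omega
        have hlt : Nat.card ↥(M.map (QuotientGroup.mk' N)) < n := by
          rw [← hn, h5]
          have h6 : 0 < Nat.card ↥(M.map (QuotientGroup.mk' N)) := Nat.card_pos
          nlinarith
        have h := ih (Nat.card ↥(M.map (QuotientGroup.mk' N))) hlt (G ⧸ N) hBN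
          (M.map (QuotientGroup.mk' N)) hodd' rfl
        exact hT _ _ e h
  intro G _ _ hB M _ hodd
  exact key _ G hB M hodd rfl

end Cfsg.Agent.Lib.Helper54.AOINDUCT11
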