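import Mathlib
import Cfsg.Prelude.Def_OddOrderLocal

/-!
# S1364 (`K ≠ 1`: `K*` cyclic, `≠ 1`, inside `M_F`; `M_F` not cyclic): piece statements

`K* = M_σ ∩ C_G(K)`.  `K* ≠ 1`: S1354.  `K*` cyclic: S1366 + S1351 (assembly).
* `U ≠ 1` (CASE1): `M_σ` is nilpotent (`Helper22.BG147N0.nilpotent_of_U_ne_bot`), normal and Hall
  (S1350), so `K* ≤ M_σ ≤ M_F` (HALLF); if `M_F` were cyclic, `M_σ ≠ 1` would have a
  characteristic subgroup of prime order (CYCV), against `Helper22.S72PRIMEV.main`.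
* `U = 1` (CASE0): `q := |K*|` is prime (S1373, landed).  `M = M_σ K`, `K` cyclic with
  `C_{M_σ}(k) = K*` for all `k ∈ K#` (S1430), `M_σ ≤ M'` (`Helper9.BG10f.sigmaCore_le_commutator`).
  QMAIN (abstract): then `Q := O_q(M_σ)` contains every `q`-element of `M_σ` (S1445 in
  `M / O_q(M_σ)`).  So `Q` is a normal Sylow `q`-subgroup of `M`: `K* ≤ Q ≤ M_F` (HALLF); and
  `Q` is not cyclic (CYCACT: else `K` centralizes `Q`, `Q ≤ K*`, against S1431 clause 3).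
-/

set_option autoImplicit false

universe u

namespace Cfsg.Agent.Lib.Helper54.S64Stmt

/-- HALLF (pure).  `N ≤ M` nilpotent, normalized by `M`, `|N|` prime to `|M : N|`:
`N ≤ M_F`.  (`N.subgroupOf M` is normal (`Subgroup.normal_subgroupOf_iff_le_normalizer`),
nilpotent (`Subgroup.subgroupOfEquivOfLe`), of the same order, index `= N.relIndex M`; so it is
in the set whose `sSup` is `fittingHall ↥M`; map back with `M.subtype`.) -/
def HallF : Prop :=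
  ∀ {G : Type u} [Group G] [Finite G] (M N : Subgroup G), N ≤ M →
    M ≤ Subgroup.normalizer (N : Set G) → Group.IsNilpotent ↥N →
    (Nat.card N).Coprime (N.relIndex M) → N ≤ Cfsg.fittingHallOf M

/-- CYCV (pure).  A nontrivial cyclic subgroup `S` has a subgroup `V` of prime order normalized
by `N_G(S)`.  (`p ∣ |S|` prime, `g₀` a generator, `V := zpowers (g₀ ^ (|S| / p))`
`= {y ∈ S | y ^ p = 1}`.) -/
def CycV : Prop :=
  ∀ {G : Type u} [Group G] [Finite G] (S : Subgroup G), IsCyclic ↥S → S ≠ ⊥ →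
    ∃ V : Subgroup G, V ≤ S ∧ (Nat.card V).Prime ∧
      ∀ g : G, g ∈ Subgroup.normalizer (S : Set G) → g ∈ Subgroup.normalizer (V : Set G)

/-- LIFT (pure).  Coprime lifting for an element of prime order `p ∤ |N|`: if `h N` commutes
with `x N` then some `c ∈ h N` commutes with `x`.  (`zpowers x` is a `p`-group acting by
conjugation on the coset `{c | mk c = mk h}`, of cardinality `|N|`:
`IsPGroup.nonempty_fixed_point_of_prime_not_dvd_card`.) -/
def Lift : Prop :=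
  ∀ {X : Type u} [Group X] [Finite X] (N : Subgroup X) [N.Normal] (x h : X),
    (orderOf x).Prime → ¬ orderOf x ∣ Nat.card N →
    QuotientGroup.mk' N h * QuotientGroup.mk' N x =
      QuotientGroup.mk' N x * QuotientGroup.mk' N h →
    ∃ c : X, c * x = x * c ∧ QuotientGroup.mk' N c = QuotientGroup.mk' N h

/-- QLIFT (pure, from LIFT).  `N ≤ H` normal, `|H|` prime to `|R|`, prime action of `R` on `H`.
If `h ∈ H` and `h N` commutes with `x N`, `1 ≠ x ∈ R`, then `h N = c N` with `c ∈ C_H(R)`.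
(`p ∣ orderOf x` prime, `x' := x ^ (orderOf x / p)` has order `p`, `x' ∈ R`, `x' ≠ 1`,
`p ∣ |R|` so `p ∤ |N|`; `h N` commutes with `x' N`; LIFT gives `c`; `c ∈ H` as `c⁻¹ h ∈ N ≤ H`;
`c ∈ H ⊓ C(x') = H ⊓ C(R)`.) -/
def QLift : Prop :=
  ∀ {X : Type u} [Group X] [Finite X] (H R N : Subgroup X) [N.Normal], N ≤ H →
    (Nat.card H).Coprime (Nat.card R) →
    (∀ x ∈ R, x ≠ 1 →
      H ⊓ Subgroup.centralizer ({x} : Set X) = H ⊓ Subgroup.centralizer (R : Set X)) →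
    ∀ x ∈ R, x ≠ 1 → ∀ h ∈ H,
      QuotientGroup.mk' N h * QuotientGroup.mk' N x =
        QuotientGroup.mk' N x * QuotientGroup.mk' N h →
      ∃ c ∈ H ⊓ Subgroup.centralizer (R : Set X), QuotientGroup.mk' N c = QuotientGroup.mk' N h

/-- FNORM (pure).  The Fitting subgroup of a normal subgroup is normal.  (For `g : Y`,
`(fittingOf Hb).map (MulAut.conj g)` is a nilpotent subgroup of `Hb` normalized by `Hb`, so it
is `≤ fittingOf Hb` by `Cfsg.Agent.Lib.Helper50.BG157.le_fittingOf_of_normal`; nilpotency of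
`fittingOf`: `Cfsg.Agent.Lib.Helper90.Bender.fittingOf_isNilpotent`,
`Cfsg.Agent.Lib.Helper90.Bender.le_normalizer_fittingOf`.) -/
def FNorm : Prop :=
  ∀ {Y : Type u} [Group Y] [Finite Y] (Hb : Subgroup Y) [Hb.Normal], (Cfsg.fittingOf Hb).Normal

/-- FQ (pure).  If `Y` has no nontrivial normal `q`-subgroup inside the normal subgroup `Hb`,
then `F(Hb)` has no nontrivial element of `q`-power order.  (`zpowers y` is a `q`-group,
subnormal in `Y` (`zpowers y ≤ F(Hb)` nilpotent, `F(Hb) ⊴ Hb ⊴ Y`), so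
`zpowers y ≤ Cfsg.pCore q Y` (`Cfsg.Agent.Lib.Helper22.SubnFit.subnormal_pGroup_le_pCore`);
`P := pCore q Y ⊓ Hb` is normal, a `q`-group (`Cfsg.Agent.Lib.Helper47.Basic.pCore_isPGroup`),
inside `Hb`: `P = ⊥`.  Or: the `q`-elements of the nilpotent `F(Hb)` form its Sylow
`q`-subgroup, normal in `Y` by FNORM.) -/
def FQ : Prop :=
  ∀ {Y : Type u} [Group Y] [Finite Y] (Hb : Subgroup Y) [Hb.Normal] (q : ℕ) [Fact q.Prime],
    (∀ P : Subgroup Y, P.Normal → P ≤ Hb → IsPGroup q P → P = ⊥) →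
    ∀ y ∈ Cfsg.fittingOf Hb, (∃ n : ℕ, y ^ q ^ n = 1) → y = 1

/-- QMAIN (pure, from QLIFT, FQ, FNORM, `Cfsg.Agent.S1445.result`, `Cfsg.Agent.S0026.result`).
`X = H R` solvable of odd order, `H ⊴ X`, `(|H|, |R|) = 1`, `R ≠ 1` abelian with prime action on
`H`, `C := C_H(R)` an abelian `q`-group, `H ≤ X'`.  Then `Q := O_q(X) ∩ H` contains every
element of `q`-power order of `H`.
Proof.  `N := Cfsg.pCore q X ⊓ H` (normal `q`-group, `≤ H`), `π := QuotientGroup.mk' N`,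
`Hb := H.map π` (normal), `Rb := R.map π`.  `Hb ⊔ Rb = ⊤`, coprime orders, odd, solvable.
(a) [QLIFT] for `1 ≠ x ∈ R` (`π x ≠ 1` as `N ∩ R = 1`): every element of `Hb ⊓ C(π x)` is
`π c`, `c ∈ C`; hence `Hb ⊓ C({xb}) = Hb ⊓ C(Rb) = C.map π` for all `1 ≠ xb ∈ Rb`.
(b) no nontrivial normal `q`-subgroup `P` of `X ⧸ N` lies in `Hb`: `P.comap π` is a normal
`q`-subgroup of `X` inside `H`, so `≤ N` (`Cfsg.Agent.Lib.Helper47.Basic.le_pCore`).
(c) `fittingOf Hb ⊓ C(Rb) = ⊥`: an element is `π c`, `c ∈ C` a `q`-element; FQ.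
(d) S1445: `⁅Hb, Rb⁆ ≤ fittingOf Hb =: F`.  S0026: `Hb = ⁅Hb, Rb⁆ ⊔ (Hb ⊓ C(Rb)) ≤ F ⊔ C.map π`.
`A := C.map π ⊔ Rb` is commutative and `F ⊔ A = ⊤`, `F` normal (FNORM):
`Subgroup.Normal.commutator_le_of_self_sup_commutative_eq_top` gives `commutator (X ⧸ N) ≤ F`.
(e) `Hb = π(H) ≤ π(commutator X) ≤ commutator (X ⧸ N) ≤ F`; for `y ∈ H` of `q`-power order,
`π y ∈ F` has `q`-power order, so `π y = 1` (FQ), `y ∈ N`. -/
def QMain : Prop :=
  ∀ {X : Type u} [Group X] [Finite X] [Group.IsSolvable X], Odd (Nat.card X) →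
  ∀ (H R : Subgroup X) [H.Normal], H ⊔ R = ⊤ → (Nat.card H).Coprime (Nat.card R) → R ≠ ⊥ →
    IsMulCommutative ↥R →
    (∀ x ∈ R, x ≠ 1 →
      H ⊓ Subgroup.centralizer ({x} : Set X) = H ⊓ Subgroup.centralizer (R : Set X)) →
  ∀ (q : ℕ) [Fact q.Prime], IsPGroup q ↥(H ⊓ Subgroup.centralizer (R : Set X)) →
    IsMulCommutative ↥(H ⊓ Subgroup.centralizer (R : Set X)) → H ≤ commutator X →
    ∃ Q : Subgroup X, Q.Normal ∧ Q ≤ H ∧ IsPGroup q Q ∧
      ∀ y ∈ H, (∃ n : ℕ, y ^ q ^ n = 1) → y ∈ Q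

/-- TRANS (from QMAIN).  `U = 1`, `q := |K*|` (prime: `Cfsg.Agent.S1373.result`): some
`Q ≤ M_σ` normalized by `M` is a `q`-group containing every element of `q`-power order of `M_σ`.
(QMAIN in `X := ↥M`, `H := (sigmaCore M).subgroupOf M`, `R := K.subgroupOf M`:
solvable `Cfsg.Agent.Lib.Helper9.BG10a.isSolvable_of_ne_top hG hM.1`, odd `hG.1`;
`H` normal (`Cfsg.Agent.Lib.Helper9.BG11b.sigmaCore_normal`); `H ⊔ R = ⊤` from `hKU.compl` with
`U = ⊥`; coprime `Cfsg.Agent.Lib.Helper22.BG1210.coprime_card_sigmaCore`; `R` abelian (`K`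
cyclic); prime action: `Cfsg.Agent.S1430.result`, clause 1; `H ⊓ C(R)` corresponds to `K*`, of
order `q`; `H ≤ commutator ↥M`: `Cfsg.Agent.Lib.Helper9.BG10f.sigmaCore_le_commutator hG
(Cfsg.Agent.Lib.Helper14.BG11Sig.uHyp hG) hM` and `Subgroup.map_subtype_commutator`.
`Q := Q'.map M.subtype`.) -/
def Trans : Prop :=
  ∀ {G : Type u} [Group G] [Finite G], Cfsg.IsMinSimpleOddOrder G →
  ∀ (M K U : Subgroup G), IsCoatom M → Cfsg.IsSigmaDecomposition M K U → K ≠ ⊥ → U = ⊥ →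
    ∃ Q : Subgroup G, Q ≤ Cfsg.sigmaCore M ∧ M ≤ Subgroup.normalizer (Q : Set G) ∧
      IsPGroup (Nat.card ↥(Cfsg.sigmaCore M ⊓ Subgroup.centralizer (K : Set G))) Q ∧
      ∀ y ∈ Cfsg.sigmaCore M,
        (∃ n : ℕ, y ^ (Nat.card ↥(Cfsg.sigmaCore M ⊓ Subgroup.centralizer (K : Set G))) ^ n = 1) →
          y ∈ Q

/-- CYCACT (pure).  A group `K` of order prime to `|Q|` normalizing a cyclic `q`-group `Q` and
centralizing a nontrivial element of `Q` centralizes `Q`.  (`Cfsg.Agent.S0055.result K Q`: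
`Q = C_Q(K) × ⁅Q, K⁆`; two subgroups of a cyclic `q`-group meeting trivially: one is trivial
(a nontrivial subgroup contains the unique subgroup of order `q`); so `⁅Q, K⁆ = ⊥`.) -/
def CycAct : Prop :=
  ∀ {G : Type u} [Group G] [Finite G] (Q K : Subgroup G), IsCyclic ↥Q →
    K ≤ Subgroup.normalizer (Q : Set G) → (Nat.card K).Coprime (Nat.card Q) →
    ∀ (q : ℕ) [Fact q.Prime], IsPGroup q Q → Q ⊓ Subgroup.centralizer (K : Set G) ≠ ⊥ →
    Q ≤ Subgroup.centralizer (K : Set G)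

/-- CASE0 (`U = 1`; from TRANS, HALLF, CYCACT).  `q := |K*|` prime (S1373), `q ∈ σ(M)`
(`Cfsg.Agent.Lib.Helper9.BG11b.mem_sigma_of_dvd`).  `Q` from TRANS.  `K* ≤ Q` (`y ^ q = 1`).
`Q` is a Sylow `q`-subgroup of `M`: a Sylow `q`-subgroup `S ≥ Q.subgroupOf M` of `↥M` consists of
`q`-elements of `M`, which lie in `M_σ` (`Cfsg.Agent.Lib.Helper9.BG11b.le_sigmaCore_of_isPGroup`)
hence in `Q`; so `|Q|` is prime to `Q.relIndex M` and HALLF gives `Q ≤ M_F`.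
If `M_F` is cyclic so is `Q`; CYCACT (`K* ≤ Q ⊓ C(K)`, `K* ≠ 1` by S1354): `Q ≤ C(K)`,
`Q ≤ K*`; but a Sylow `q`-subgroup of `M_σ` lies in `Q`, against
`(Cfsg.Agent.S1431.result hG M hM K hKU.hall hK1).2.2.1 q _ _ S`. -/
def Case0 : Prop :=
  ∀ {G : Type u} [Group G] [Finite G], Cfsg.IsMinSimpleOddOrder G →
  ∀ (M K U : Subgroup G), IsCoatom M → Cfsg.IsSigmaDecomposition M K U → K ≠ ⊥ → U = ⊥ →
    Cfsg.sigmaCore M ⊓ Subgroup.centralizer (K : Set G) ≤ Cfsg.fittingHallOf M ∧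
      ¬ IsCyclic ↥(Cfsg.fittingHallOf M)

/-- CASE1 (`U ≠ 1`; from HALLF, CYCV).  `M_σ` nilpotent
(`Cfsg.Agent.Lib.Helper22.BG147N0.nilpotent_of_U_ne_bot`), normal, `|M_σ|` prime to
`M_σ.relIndex M` (`Cfsg.Agent.S1350.result`, clause 1): `K* ≤ M_σ ≤ M_F`.  If `M_F` is cyclic so
is `M_σ ≠ 1` (S1354); CYCV gives `V ≤ M_σ` of prime order normalized by `M ≥ K, U`:
`Cfsg.Agent.Lib.Helper22.S72PRIMEV.main`. -/
def Case1 : Prop :=
  ∀ {G : Type u} [Group G] [Finite G], Cfsg.IsMinSimpleOddOrder G →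
  ∀ (M K U : Subgroup G), IsCoatom M → Cfsg.IsSigmaDecomposition M K U → K ≠ ⊥ → U ≠ ⊥ →
    Cfsg.sigmaCore M ⊓ Subgroup.centralizer (K : Set G) ≤ Cfsg.fittingHallOf M ∧
      ¬ IsCyclic ↥(Cfsg.fittingHallOf M)

/-- The statement. -/
def Final : Prop :=
  ∀ {G : Type u} [Group G] [Finite G], Cfsg.IsMinSimpleOddOrder G →
  ∀ (M : Subgroup G), IsCoatom M → ∀ (K U : Subgroup G), Cfsg.IsSigmaDecomposition M K U →
    K ≠ ⊥ →
    IsCyclic ↥(Cfsg.sigmaCore M ⊓ Subgroup.centralizer (K : Set G)) ∧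
      (Cfsg.sigmaCore M ⊓ Subgroup.centralizer (K : Set G)) ≠ ⊥ ∧
      (Cfsg.sigmaCore M ⊓ Subgroup.centralizer (K : Set G)) ≤ Cfsg.fittingHallOf M ∧
      ¬ IsCyclic (Cfsg.fittingHallOf M)

end Cfsg.Agent.Lib.Helper54.S64Stmt
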